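import Mathlib.Algebra.Module.ZMod
import Mathlib.LinearAlgebra.Dual.Lemmas
import Mathlib.LinearAlgebra.Projection
import Mathlib.RepresentationTheory.Basic
import Mathlib.LinearAlgebra.FiniteDimensional.Basic
import Mathlib.FieldTheory.Finite.Basic

/-!
# Invariant bilinear forms on coprime modules
-/

namespace Cfsg.Agent.Robinson

universe u v

variable {p : ℕ} [Fact p.Prime] {C : Type u} [Group C] [Finite C]
  {M : Type v} [AddCommGroup M] [Module (ZMod p) M] [Finite M]
  (ρ : Representation (ZMod p) C M)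

/-- A submodule mapped into itself by the representation. -/
def InvSub (W : Submodule (ZMod p) M) : Prop := ∀ h, ∀ x ∈ W, ρ h x ∈ W

/-- The representation on an invariant submodule. -/
def res (W : Submodule (ZMod p) M) (hW : InvSub ρ W) : Representation (ZMod p) C W where
  toFun h := (ρ h).restrict (hW h)
  map_one' := by ext x; simp
  map_mul' a b := by ext x; simp

omit [Finite C] [Finite M] in
@[simp] theorem coe_res (W : Submodule (ZMod p) M) (hW : InvSub ρ W) (h : C) (x : W) :
    ((res ρ W hW h x : W) : M) = ρ h (x : M) := rfl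

/-- The fixed submodule of an element. -/
def fixSub (h : C) : Submodule (ZMod p) M := LinearMap.eqLocus (ρ h) LinearMap.id

omit [Finite C] [Finite M] in
theorem mem_fixSub {h : C} {x : M} : x ∈ fixSub ρ h ↔ ρ h x = x := Iff.rfl

/-- The number of fixed points. -/
noncomputable def fixCard (h : C) : ℕ := Nat.card (fixSub ρ h)

/-- An invariant bilinear form. -/
def InvForm (β : M →ₗ[ZMod p] M →ₗ[ZMod p] ZMod p) : Prop := ∀ h x y, β (ρ h x) (ρ h y) = β x y

/-- A form with trivial left radical. -/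
def LNd (β : M →ₗ[ZMod p] M →ₗ[ZMod p] ZMod p) : Prop := ∀ x, (∀ y, β x y = 0) → x = 0

/-- A form restricted to a submodule. -/
def resForm (β : M →ₗ[ZMod p] M →ₗ[ZMod p] ZMod p) (W : Submodule (ZMod p) M) :
    W →ₗ[ZMod p] W →ₗ[ZMod p] ZMod p :=
  β.compl₁₂ W.subtype W.subtype

omit [Finite M] in
@[simp] theorem resForm_apply (β : M →ₗ[ZMod p] M →ₗ[ZMod p] ZMod p) (W : Submodule (ZMod p) M)
    (x y : W) : resForm β W x y = β (x : M) (y : M) := rfl

variable {ρ}

omit [Finite C] [Finite M] in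
theorem InvForm.res {β : M →ₗ[ZMod p] M →ₗ[ZMod p] ZMod p} (hβ : InvForm ρ β)
    (W : Submodule (ZMod p) M) (hW : InvSub ρ W) : InvForm (res ρ W hW) (resForm β W) :=
  fun h x y => hβ h x y

/-- A submodule with non-degenerate form has its left orthogonal as complement, which is again
non-degenerate. -/
theorem exists_perp {β : M →ₗ[ZMod p] M →ₗ[ZMod p] ZMod p} (hnd : LNd β)
    (W : Submodule (ZMod p) M) (hW : LNd (resForm β W)) :
    ∃ L : Submodule (ZMod p) M, IsCompl W L ∧ LNd (resForm β L) ∧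
      ∀ x, x ∈ L ↔ ∀ w ∈ W, β x w = 0 := by
  let φ : M →ₗ[ZMod p] (W →ₗ[ZMod p] ZMod p) := β.compl₂ W.subtype
  have hφ : ∀ x (w : W), φ x w = β x w := fun x w => rfl
  have hinj : Function.Injective (φ.comp W.subtype) := by
    intro a b hab
    refine sub_eq_zero.1 (hW (a - b) fun y => ?_)
    have h1 := LinearMap.congr_fun hab y
    simp only [LinearMap.comp_apply, Submodule.coe_subtype, hφ] at h1
    simp only [map_sub, LinearMap.sub_apply, resForm_apply, h1, sub_self]
  have hsurj : Function.Surjective (φ.comp W.subtype) := by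
    refine (LinearMap.injective_iff_surjective_of_finrank_eq_finrank ?_).1 hinj
    exact (Subspace.dual_finrank_eq).symm
  let L := LinearMap.ker φ
  have hL : ∀ x, x ∈ L ↔ ∀ w ∈ W, β x w = 0 := fun x => by
    rw [LinearMap.mem_ker]
    exact ⟨fun h w hw => by simpa [hφ] using LinearMap.congr_fun h ⟨w, hw⟩,
      fun h => LinearMap.ext fun w => by simpa [hφ] using h w w.2⟩
  have hc : IsCompl W L := by
    constructor
    · rw [Submodule.disjoint_def]
      intro x hxW hxL
      have := hW ⟨x, hxW⟩ fun y => (hL x).1 hxL y y.2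
      simpa using congrArg Subtype.val this
    · rw [codisjoint_iff, eq_top_iff]
      intro x _
      obtain ⟨w, hw⟩ := hsurj (φ x)
      refine Submodule.mem_sup.2 ⟨w, w.2, x - w, ?_, add_sub_cancel _ _⟩
      rw [LinearMap.mem_ker, map_sub, sub_eq_zero]
      exact hw.symm
  refine ⟨L, hc, fun x hx => Subtype.ext (hnd x fun y => ?_), hL⟩
  obtain ⟨w, hw, l, hl, rfl⟩ := Submodule.mem_sup.1
    (show y ∈ W ⊔ L by rw [hc.sup_eq_top]; trivial)
  rw [map_add, (hL x).1 x.2 w hw, zero_add]
  exact hx ⟨l, hl⟩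

omit [Group C] [Finite C] in
/-- The inverse of `|C|` modulo `p`. -/
theorem card_inverse (hpC : ¬ p ∣ Nat.card C) :
    ∃ k : ZMod p, k * (Nat.card C : ZMod p) = 1 :=
  ⟨(Nat.card C : ZMod p)⁻¹, inv_mul_cancel₀ fun h => hpC ((ZMod.natCast_eq_zero_iff _ p).1 h)⟩

/-- Maschke: invariant submodules have invariant complements. -/
theorem exists_inv_compl (hpC : ¬ p ∣ Nat.card C) (W : Submodule (ZMod p) M) (hW : InvSub ρ W) :
    ∃ K : Submodule (ZMod p) M, InvSub ρ K ∧ IsCompl W K := by
  classical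
  cases nonempty_fintype C
  obtain ⟨q, hq⟩ := W.exists_isCompl
  let f : M →ₗ[ZMod p] M := W.subtype.comp (W.projectionOnto q hq)
  have hf1 : ∀ x, f x ∈ W := fun x => Submodule.coe_mem _
  have hf2 : ∀ x ∈ W, f x = x := fun x hx => by
    show ((W.projectionOnto q hq x : W) : M) = x
    exact congrArg Subtype.val (Submodule.projectionOnto_apply_left hq ⟨x, hx⟩)
  obtain ⟨k, hk⟩ := card_inverse (C := C) hpC
  let g : M →ₗ[ZMod p] M := k • ∑ h : C, (ρ h).comp (f.comp (ρ h⁻¹))
  have hg : ∀ x, g x = k • ∑ h : C, ρ h (f (ρ h⁻¹ x)) := fun x => by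
    simp [g, LinearMap.sum_apply]
  have hg1 : ∀ x, g x ∈ W := fun x => by
    rw [hg]
    exact W.smul_mem _ (Submodule.sum_mem _ fun h _ => hW h _ (hf1 _))
  have hg2 : ∀ x ∈ W, g x = x := fun x hx => by
    have : ∀ h : C, ρ h (f (ρ h⁻¹ x)) = x := fun h => by
      rw [hf2 _ (hW _ x hx), ← Module.End.mul_apply, ← map_mul, mul_inv_cancel, map_one,
        Module.End.one_apply]
    rw [hg, Finset.sum_congr rfl fun h _ => this h, Finset.sum_const, Finset.card_univ,
      ← Nat.card_eq_fintype_card, ← Nat.cast_smul_eq_nsmul (ZMod p), smul_smul, hk, one_smul]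
  have hcomm : ∀ a x, g (ρ a x) = ρ a (g x) := fun a x => by
    rw [hg, hg, map_smul, map_sum]
    congr 1
    refine Fintype.sum_equiv (Equiv.mulLeft a⁻¹) _ _ fun h => ?_
    rw [Equiv.coe_mulLeft, ← Module.End.mul_apply (ρ a) (ρ _), ← map_mul, mul_inv_cancel_left,
      mul_inv_rev, inv_inv, map_mul ρ h⁻¹ a, Module.End.mul_apply]
  refine ⟨LinearMap.ker g, fun a x hx => ?_, ?_, ?_⟩
  · rw [LinearMap.mem_ker, hcomm, LinearMap.mem_ker.1 hx, map_zero]
  · rw [Submodule.disjoint_def]
    intro x hxW hxg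
    rw [← hg2 x hxW]
    exact hxg
  · rw [codisjoint_iff, eq_top_iff]
    intro x _
    refine Submodule.mem_sup.2 ⟨g x, hg1 x, x - g x, ?_, add_sub_cancel _ _⟩
    rw [LinearMap.mem_ker, map_sub, hg2 _ (hg1 x), sub_self]

/-- An invariant alternating form comes from an invariant cocycle. -/
theorem exists_cocycle (hpC : ¬ p ∣ Nat.card C) {a : M →ₗ[ZMod p] M →ₗ[ZMod p] ZMod p}
    (ha : ∀ x, a x x = 0) (hinv : InvForm ρ a) :
    ∃ c : M →ₗ[ZMod p] M →ₗ[ZMod p] ZMod p, InvForm ρ c ∧ c - c.flip = a := by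
  classical
  cases nonempty_fintype C
  have hskew : ∀ x y, a y x = -a x y := fun x y => by
    have h := ha (x + y)
    simp only [map_add, LinearMap.add_apply, ha, zero_add, add_zero] at h
    exact eq_neg_of_add_eq_zero_left h
  let b := Module.finBasis (ZMod p) M
  let c0 : M →ₗ[ZMod p] M →ₗ[ZMod p] ZMod p :=
    b.constr (ZMod p) fun i => b.constr (ZMod p) fun j => if i < j then a (b i) (b j) else 0
  have h0 : c0 - c0.flip = a := by
    refine b.ext fun i => b.ext fun j => ?_
    simp only [LinearMap.sub_apply, LinearMap.flip_apply, c0, Module.Basis.constr_basis]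
    rcases lt_trichotomy i j with h | rfl | h
    · rw [if_pos h, if_neg (not_lt_of_gt h), sub_zero]
    · simp [ha]
    · rw [if_neg (not_lt_of_gt h), if_pos h, zero_sub, hskew, neg_neg]
  obtain ⟨k, hk⟩ := card_inverse (C := C) hpC
  refine ⟨k • ∑ h : C, c0.compl₁₂ (ρ h) (ρ h), fun s x y => ?_, ?_⟩
  · simp only [LinearMap.smul_apply, LinearMap.sum_apply, LinearMap.compl₁₂_apply]
    congr 1
    refine Fintype.sum_equiv (Equiv.mulRight s) _ _ fun h => ?_
    simp [map_mul]
  · refine LinearMap.ext₂ fun x y => ?_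
    simp only [LinearMap.sub_apply, LinearMap.flip_apply, LinearMap.smul_apply, LinearMap.sum_apply,
      LinearMap.compl₁₂_apply, ← smul_sub, ← Finset.sum_sub_distrib]
    rw [Finset.sum_congr rfl fun h _ => show c0 (ρ h x) (ρ h y) - c0 (ρ h y) (ρ h x) = a x y by
        rw [← hinv h x y, ← h0]; rfl, Finset.sum_const, Finset.card_univ, ← Nat.card_eq_fintype_card,
      ← Nat.cast_smul_eq_nsmul (ZMod p), smul_smul, hk, one_smul]

/-- The fixed submodule meets the range of `1 - h` trivially. -/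
theorem fix_disjoint_range (hpC : ¬ p ∣ Nat.card C) (h : C) :
    Disjoint (fixSub ρ h) (LinearMap.range (LinearMap.id - ρ h)) := by
  rw [Submodule.disjoint_def]
  rintro x hx ⟨y, rfl⟩
  rw [mem_fixSub] at hx
  set x := (LinearMap.id - ρ h : M →ₗ[ZMod p] M) y with hxdef
  have hi : ∀ i : ℕ, (ρ h ^ i) x = x := by
    intro i
    induction i with
    | zero => simp
    | succ i ih => rw [pow_succ, Module.End.mul_apply, hx, ih]
  have hs : ∀ i : ℕ, (ρ h ^ i) y - (ρ h ^ (i + 1)) y = x := by
    intro i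
    rw [pow_succ, Module.End.mul_apply, ← map_sub]
    exact hi i
  have hsum := Finset.sum_range_sub' (fun i => (ρ h ^ i) y) (orderOf h)
  have ho : ρ h ^ orderOf h = 1 := by rw [← map_pow, pow_orderOf_eq_one, map_one]
  rw [Finset.sum_congr rfl fun i _ => hs i, Finset.sum_const, Finset.card_range, ho, pow_zero,
    sub_self] at hsum
  rw [← Nat.cast_smul_eq_nsmul (ZMod p), smul_eq_zero] at hsum
  refine hsum.resolve_left fun h0 => hpC ?_
  exact ((ZMod.natCast_eq_zero_iff _ p).1 h0).trans (orderOf_dvd_natCard h)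

/-- The module is the sum of the fixed submodule and the range of `1 - h`. -/
theorem fix_isCompl_range (hpC : ¬ p ∣ Nat.card C) (h : C) :
    IsCompl (fixSub ρ h) (LinearMap.range (LinearMap.id - ρ h)) := by
  have hd := fix_disjoint_range (ρ := ρ) hpC h
  refine ⟨hd, codisjoint_iff.2 (Submodule.eq_top_of_disjoint _ _ ?_ hd)⟩
  have hk : fixSub ρ h = LinearMap.ker (LinearMap.id - ρ h) := by
    ext x
    rw [mem_fixSub, LinearMap.mem_ker, LinearMap.sub_apply, LinearMap.id_apply, sub_eq_zero, eq_comm]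
  rw [hk, add_comm, LinearMap.finrank_range_add_finrank_ker]

omit [Finite C] [Finite M] in
theorem card_of_isCompl {W L : Submodule (ZMod p) M} (h : IsCompl W L) :
    Nat.card M = Nat.card W * Nat.card L := by
  rw [← Nat.card_prod]
  exact (Nat.card_congr (Submodule.prodEquivOfIsCompl W L h).toEquiv).symm

omit [Finite C] [Finite M] in
/-- The fixed points along a decomposition. -/
theorem fixCard_mul {W L : Submodule (ZMod p) M} (hW : InvSub ρ W) (hL : InvSub ρ L) (hc : IsCompl W L)
    (h : C) : fixCard ρ h = fixCard (res ρ W hW) h * fixCard (res ρ L hL) h := by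
  let e := Submodule.prodEquivOfIsCompl W L hc
  have he : ∀ w l, e (w, l) = (w : M) + (l : M) := fun w l => rfl
  rw [fixCard, fixCard, fixCard, ← Nat.card_prod]
  refine (Nat.card_congr (Equiv.ofBijective
    (fun q : ↥(fixSub (res ρ W hW) h) × ↥(fixSub (res ρ L hL) h) =>
      (⟨e (q.1.1, q.2.1), ?_⟩ : fixSub ρ h)) ⟨?_, ?_⟩)).symm
  · have h1 := congrArg Subtype.val ((mem_fixSub _).1 q.1.2)
    have h2 := congrArg Subtype.val ((mem_fixSub _).1 q.2.2)
    simp only [coe_res] at h1 h2
    rw [mem_fixSub, he, map_add, h1, h2]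
  · intro a b hab
    have h0 : e (a.1.1, a.2.1) = e (b.1.1, b.2.1) := congrArg (fun z : ↥(fixSub ρ h) => (z : M)) hab
    have h1 := e.injective h0
    exact Prod.ext (Subtype.ext (congrArg Prod.fst h1)) (Subtype.ext (congrArg Prod.snd h1))
  · rintro ⟨x, hx⟩
    obtain ⟨⟨w, l⟩, rfl⟩ := e.surjective x
    have h1 : e (res ρ W hW h w, res ρ L hL h l) = e (w, l) := by
      rw [mem_fixSub, he, map_add] at hx
      rw [he, he]
      exact hx
    exact ⟨(⟨w, congrArg Prod.fst (e.injective h1)⟩, ⟨l, congrArg Prod.snd (e.injective h1)⟩), rfl⟩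

end Cfsg.Agent.Robinson
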