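import Cfsg.Agent.CharInduce.Ops
import Cfsg.Agent.CharBasic.Complete
import Cfsg.Agent.H81.GaloisSum
import Mathlib.FieldTheory.IntermediateField.Adjoin.Basic
import Mathlib.RingTheory.Norm.Transitivity

/-!
# Integral combinations of characters, and norms in cyclotomic fields
-/

open scoped ComplexConjugate
open Cfsg.Agent.CharBasic

namespace Cfsg.Agent.Robinson

universe u

section Span

variable (C : Type u) [Group C]

/-- Characters scaled by algebraic integers. -/
def scaledChars : Submonoid (C → ℂ) where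
  carrier := {f | ∃ (a : ℂ) (φ : C → ℂ), IsIntegral ℤ a ∧ Cfsg.IsCharacter C φ ∧ f = fun h => a * φ h}
  one_mem' := ⟨1, fun _ => 1, isIntegral_one, CharInduce.IsChar.one, funext fun _ => (one_mul _).symm⟩
  mul_mem' := by
    rintro _ _ ⟨a, φ, ha, hφ, rfl⟩ ⟨b, ψ, hb, hψ, rfl⟩
    exact ⟨a * b, φ * ψ, ha.mul hb, CharInduce.IsChar.mul hφ hψ, funext fun h => by
      simp only [Pi.mul_apply]; ring⟩

/-- The ring of combinations of characters with algebraic integer coefficients. -/
def algSpan : Subring (C → ℂ) := Subring.closure (scaledChars C : Set (C → ℂ))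

variable {C}

theorem algSpan_induction {P : (C → ℂ) → Prop} (hz : P 0) (ha : ∀ f g, P f → P g → P (f + g))
    (hn : ∀ f, P f → P (-f))
    (hs : ∀ (a : ℂ) (φ : C → ℂ), IsIntegral ℤ a → Cfsg.IsCharacter C φ → P (fun h => a * φ h))
    {f : C → ℂ} (hf : f ∈ algSpan C) : P f := by
  rw [algSpan, Subring.mem_closure_iff, Submonoid.closure_eq] at hf
  induction hf using AddSubgroup.closure_induction with
  | mem f hf =>
      obtain ⟨a, φ, h1, h2, rfl⟩ := hf
      exact hs a φ h1 h2
  | zero => exact hz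
  | add f g _ _ h1 h2 => exact ha f g h1 h2
  | neg f _ h1 => exact hn f h1

theorem mem_algSpan_char {φ : C → ℂ} (h : Cfsg.IsCharacter C φ) : φ ∈ algSpan C :=
  Subring.subset_closure ⟨1, φ, isIntegral_one, h, funext fun _ => (one_mul _).symm⟩

theorem mem_algSpan_const {a : ℂ} (h : IsIntegral ℤ a) : (fun _ : C => a) ∈ algSpan C :=
  Subring.subset_closure ⟨a, fun _ => 1, h, CharInduce.IsChar.one, funext fun _ => (mul_one _).symm⟩

theorem mem_algSpan_smul {a : ℂ} (h : IsIntegral ℤ a) {f : C → ℂ} (hf : f ∈ algSpan C) :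
    (fun x => a * f x) ∈ algSpan C :=
  mul_mem (mem_algSpan_const h) hf

theorem mem_algSpan_sum {ι : Type*} (s : Finset ι) {F : ι → C → ℂ} (h : ∀ i ∈ s, F i ∈ algSpan C) :
    (fun x => ∑ i ∈ s, F i x) ∈ algSpan C := by
  have : (fun x => ∑ i ∈ s, F i x) = ∑ i ∈ s, F i := funext fun x => (Finset.sum_apply x s F).symm
  rw [this]
  exact sum_mem h

theorem algSpan_isClassFunction {f : C → ℂ} (hf : f ∈ algSpan C) : Cfsg.IsClassFunction C f := by
  refine algSpan_induction ?_ ?_ ?_ ?_ hf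
  · intro x g; rfl
  · intro f g h1 h2 x y; simp only [Pi.add_apply, h1 x y, h2 x y]
  · intro f h1 x y; simp only [Pi.neg_apply, h1 x y]
  · intro a φ _ hφ x y; simp only [IsChar.isClassFunction hφ x y]

theorem algSpan_isIntegral [Finite C] {f : C → ℂ} (hf : f ∈ algSpan C) (h : C) :
    IsIntegral ℤ (f h) := by
  refine algSpan_induction (P := fun f => IsIntegral ℤ (f h)) isIntegral_zero
    (fun f g h1 h2 => h1.add h2) (fun f h1 => h1.neg) ?_ hf
  exact fun a φ ha hφ => ha.mul (IsChar.isIntegral hφ h)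

/-- The average of an element of the span is an algebraic integer. -/
theorem algSpan_average [Fintype C] {f : C → ℂ} (hf : f ∈ algSpan C) :
    IsIntegral ℤ ((Nat.card C : ℂ)⁻¹ * ∑ h, f h) := by
  refine algSpan_induction (P := fun f => IsIntegral ℤ ((Nat.card C : ℂ)⁻¹ * ∑ h, f h)) ?_ ?_ ?_ ?_ hf
  · simp [isIntegral_zero]
  · intro f g h1 h2
    simp only [Pi.add_apply, Finset.sum_add_distrib, mul_add]
    exact h1.add h2
  · intro f h1
    simp only [Pi.neg_apply, Finset.sum_neg_distrib, mul_neg]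
    exact h1.neg
  · intro a φ ha hφ
    obtain ⟨n, hn⟩ := classInner_isChar_nat hφ (CharInduce.IsChar.one (G := C))
    rw [classInner_def] at hn
    simp only [map_one, mul_one] at hn
    rw [← Finset.mul_sum, mul_left_comm, hn]
    exact ha.mul isIntegral_algebraMap

theorem algSpan_conj [Finite C] {f : C → ℂ} (hf : f ∈ algSpan C) :
    (fun h => conj (f h)) ∈ algSpan C := by
  refine algSpan_induction (P := fun f => (fun h => conj (f h)) ∈ algSpan C) ?_ ?_ ?_ ?_ hf
  · simp only [Pi.zero_apply, map_zero]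
    exact zero_mem _
  · intro f g h1 h2
    simp only [Pi.add_apply, map_add]
    exact add_mem h1 h2
  · intro f h1
    simp only [Pi.neg_apply, map_neg]
    exact neg_mem h1
  · intro a φ ha hφ
    simp only [map_mul]
    exact mem_algSpan_smul (IsIntegral.map (starRingEnd ℂ).toIntAlgHom ha)
      (mem_algSpan_char (CharInduce.IsChar.conj hφ))

/-- A function in the span with values powers of `p` has an inverse up to a power of `p`. -/
theorem algSpan_inverse {p : ℕ} {g : C → ℂ} (hg : g ∈ algSpan C) {n : ℕ}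
    (hv : ∀ h, ∃ j < n, g h = (p : ℂ) ^ j) :
    ∃ (T : ℕ) (Q : C → ℂ), Q ∈ algSpan C ∧ ∀ h, g h * Q h = (p : ℂ) ^ T := by
  have hc : ∀ k : ℕ, IsIntegral ℤ ((p : ℂ) ^ k) := fun k => (isIntegral_algebraMap (x := (p : ℤ))).pow k
  have key : ∀ k : ℕ, ∃ (T : ℕ) (Q : C → ℂ), Q ∈ algSpan C ∧
      ∀ h, ∏ j ∈ Finset.range k, (g h - (p : ℂ) ^ j) = g h * Q h + (-1) ^ k * (p : ℂ) ^ T := by
    intro k
    induction k with
    | zero => exact ⟨0, 0, zero_mem _, fun h => by simp⟩
    | succ k ih =>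
        obtain ⟨T, Q, hQ, hR⟩ := ih
        refine ⟨T + k, fun h => (g h * Q h + (-1) ^ k * (p : ℂ) ^ T) - (p : ℂ) ^ k * Q h, ?_,
          fun h => ?_⟩
        · exact sub_mem (add_mem (mul_mem hg hQ)
            (mem_algSpan_const (((isIntegral_one.neg).pow k).mul (hc T)))) (mem_algSpan_smul (hc k) hQ)
        · rw [Finset.prod_range_succ, hR h, pow_add]
          ring
  obtain ⟨T, Q, hQ, hR⟩ := key n
  refine ⟨T, fun h => -((-1) ^ n) * Q h, mem_algSpan_smul ((isIntegral_one.neg).pow n).neg hQ, fun h => ?_⟩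
  obtain ⟨j, hj, hj'⟩ := hv h
  have h0 := hR h
  rw [Finset.prod_eq_zero (Finset.mem_range.2 hj) (sub_eq_zero.2 hj')] at h0
  have h1 : ((-1 : ℂ) ^ n) * (-1) ^ n = 1 := by rw [← mul_pow]; norm_num
  linear_combination ((-1 : ℂ) ^ n) * h0 + (p : ℂ) ^ T * h1

/-- Values of a character along a coset of a centralised element. -/
theorem algSpan_commute {G : Type u} [Group G] [Finite G] [Finite C] {χ : G → ℂ}
    (hχ : Cfsg.IsCharacter G χ) (f : C →* G) {g : G} (hg : ∀ k, Commute (f k) g) :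
    (fun k => χ (f k * g)) ∈ algSpan C := by
  classical
  let Φ : C × ↥(Subgroup.zpowers g) →* G := MonoidHom.noncommCoprod f (Subgroup.zpowers g).subtype (by
    rintro k ⟨_, i, rfl⟩
    exact (hg k).zpow_right i)
  let t : ↥(Subgroup.zpowers g) := ⟨g, Subgroup.mem_zpowers g⟩
  have e : (fun k => χ (f k * g)) = fun k => (χ ∘ Φ) (k, t) := rfl
  rw [e]
  have hc : Cfsg.IsCharacter _ (χ ∘ Φ) := CharInduce.IsChar.comp hχ Φ
  refine IsChar.induction_on (p := fun F : C × ↥(Subgroup.zpowers g) → ℂ =>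
    (fun k => F (k, t)) ∈ algSpan C) hc ?_ ?_
  · exact zero_mem _
  · intro η F hη _ hF
    obtain ⟨φ, ψ, hφ, hψ, rfl⟩ := CharInduce.exists_outer_of_isIrr hη
    refine add_mem ?_ hF
    exact Subring.subset_closure ⟨ψ t, φ, IsChar.isIntegral (IsIrr.isCharacter hψ) _,
      IsIrr.isCharacter hφ, funext fun k => mul_comm _ _⟩

end Span

section Field

open IntermediateField

/-- The field of `N`-th roots of unity inside `ℂ`. -/
noncomputable def rootField (N : ℕ) : IntermediateField ℚ ℂ :=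
  IntermediateField.adjoin ℚ {z : ℂ | z ^ N = 1}

theorem mem_rootField {N : ℕ} {z : ℂ} (hz : z ^ N = 1) : z ∈ rootField N :=
  IntermediateField.subset_adjoin ℚ _ hz

theorem mem_rootField_of_dvd {m N : ℕ} (h : m ∣ N) {z : ℂ} (hz : z ^ m = 1) : z ∈ rootField N := by
  obtain ⟨d, rfl⟩ := h
  exact mem_rootField (by rw [pow_mul, hz, one_pow])

/-- Character values lie in the field of roots of unity. -/
theorem char_mem_rootField {G : Type u} [Group G] [Finite G] {χ : G → ℂ}
    (hχ : Cfsg.IsCharacter G χ) {g : G} {N : ℕ} (hg : g ^ N = 1) : χ g ∈ rootField N := by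
  obtain ⟨n, ρ, rfl⟩ := hχ
  obtain ⟨b, μ, -, hμ, hs⟩ := exists_eigenbasis_rep ρ g
  rw [hs]
  exact sum_mem fun i _ => mem_rootField_of_dvd (orderOf_dvd_of_pow_eq_one hg) (hμ i)

theorem conj_mem_rootField {N : ℕ} {z : ℂ} (hz : z ∈ rootField N) : conj z ∈ rootField N := by
  induction hz using IntermediateField.adjoin_induction with
  | mem z hz =>
      exact mem_rootField (by rw [← map_pow, show z ^ N = 1 from hz, map_one])
  | algebraMap q =>
      rw [show conj (algebraMap ℚ ℂ q) = algebraMap ℚ ℂ q by simp]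
      exact IntermediateField.algebraMap_mem _ q
  | add x y _ _ hx hy => rw [map_add]; exact add_mem hx hy
  | inv x _ hx => rw [map_inv₀]; exact inv_mem hx
  | mul x y _ _ hx hy => rw [map_mul]; exact mul_mem hx hy

instance finite_rootField (N : ℕ) [NeZero N] : FiniteDimensional ℚ (rootField N) := by
  classical
  have hfin : {z : ℂ | z ^ N = 1}.Finite :=
    (Polynomial.nthRootsFinset N (1 : ℂ)).finite_toSet.subset fun z hz => by
      simpa [Polynomial.mem_nthRootsFinset (NeZero.pos N)] using hz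
  haveI := hfin.to_subtype
  exact IntermediateField.finiteDimensional_adjoin (K := ℚ) (S := {z : ℂ | z ^ N = 1})
    fun z hz => IsIntegral.of_pow (NeZero.pos N) (by rw [hz]; exact isIntegral_one)

theorem algHom_conj {N : ℕ} [NeZero N] (σ : rootField N →ₐ[ℚ] ℂ) (z : rootField N) :
    σ ⟨conj (z : ℂ), conj_mem_rootField z.2⟩ = conj (σ z) := by
  obtain ⟨z, hz⟩ := z
  induction hz using IntermediateField.adjoin_induction with
  | mem z hz =>
      have hz' : z ^ N = 1 := hz
      have h1 : ‖z‖ = 1 := Complex.norm_eq_one_of_pow_eq_one hz' (NeZero.ne N)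
      have h2 : ‖σ ⟨z, mem_rootField hz'⟩‖ = 1 := by
        refine Complex.norm_eq_one_of_pow_eq_one ?_ (NeZero.ne N)
        rw [← map_pow, show (⟨z, mem_rootField hz'⟩ : rootField N) ^ N = 1 from Subtype.ext hz',
          map_one]
      rw [← Complex.inv_eq_conj h2, ← map_inv₀]
      congr 1
      exact Subtype.ext (Complex.inv_eq_conj h1).symm
  | algebraMap q =>
      rw [show (⟨conj (algebraMap ℚ ℂ q), conj_mem_rootField (IntermediateField.algebraMap_mem (rootField N) q)⟩ : rootField N) = algebraMap ℚ _ q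
          from Subtype.ext (map_ratCast (starRingEnd ℂ) q),
        show (⟨algebraMap ℚ ℂ q, _⟩ : rootField N) = algebraMap ℚ _ q from Subtype.ext rfl,
        AlgHom.commutes]
      exact (map_ratCast (starRingEnd ℂ) q).symm
  | add x y hx' hy' hx hy =>
      rw [show (⟨x + y, _⟩ : rootField N) = ⟨x, hx'⟩ + ⟨y, hy'⟩ from rfl, map_add, map_add, ← hx, ← hy,
        ← map_add]
      congr 1
      exact Subtype.ext (map_add (starRingEnd ℂ) x y)
  | inv x hx' hx =>
      rw [show (⟨x⁻¹, _⟩ : rootField N) = (⟨x, hx'⟩ : rootField N)⁻¹ from Subtype.ext rfl, map_inv₀,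
        map_inv₀, ← hx, ← map_inv₀]
      congr 1
      exact Subtype.ext (map_inv₀ (starRingEnd ℂ) x)
  | mul x y hx' hy' hx hy =>
      rw [show (⟨x * y, _⟩ : rootField N) = ⟨x, hx'⟩ * ⟨y, hy'⟩ from rfl, map_mul, map_mul, ← hx, ← hy,
        ← map_mul]
      congr 1
      exact Subtype.ext (map_mul (starRingEnd ℂ) x y)

/-- Non-zero algebraic integers of a cyclotomic field whose squared absolute values sum to a
rational number are at most that many. -/
theorem card_le_of_sum_mul_conj {N : ℕ} [NeZero N] {ι : Type*} [Fintype ι] (b : ι → ℂ)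
    (hb : ∀ i, b i ∈ rootField N) (hint : ∀ i, IsIntegral ℤ (b i)) (hne : ∀ i, b i ≠ 0)
    {R : ℚ} (hsum : ∑ i, b i * conj (b i) = (R : ℂ)) : (Fintype.card ι : ℝ) ≤ R := by
  classical
  let K := rootField N
  haveI : FiniteDimensional ℚ K := finite_rootField N
  let y : ι → K := fun i => ⟨b i, hb i⟩
  have hone : ∀ i, (Fintype.card (K →ₐ[ℚ] ℂ) : ℝ) ≤ ∑ σ : K →ₐ[ℚ] ℂ, ‖σ (y i)‖ ^ 2 := by
    intro i
    have hxint : IsIntegral ℤ (y i) := (isIntegral_algebraMap_iff (algebraMap K ℂ).injective).1 (hint i)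
    obtain ⟨m, hm⟩ := IsIntegrallyClosed.isIntegral_iff.1 (Algebra.isIntegral_norm ℚ hxint)
    have hy0 : y i ≠ 0 := fun h => hne i (congrArg Subtype.val h)
    have hm0 : m ≠ 0 := fun h => by
      rw [h, map_zero] at hm
      exact (Algebra.norm_ne_zero_iff.2 hy0) hm.symm
    have hprod := Algebra.norm_eq_prod_embeddings ℚ ℂ (y i)
    have h1 : 1 ≤ ∏ σ : K →ₐ[ℚ] ℂ, ‖σ (y i)‖ := by
      rw [← norm_prod, ← hprod, ← hm, show algebraMap ℚ ℂ (algebraMap ℤ ℚ m) = (m : ℂ) by simp,
        Complex.norm_intCast]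
      exact_mod_cast Int.one_le_abs hm0
    have hpos : ∀ σ : K →ₐ[ℚ] ℂ, 0 < ‖σ (y i)‖ := fun σ => by
      rw [norm_pos_iff]
      exact fun h => hy0 (σ.toRingHom.injective (h.trans (map_zero _).symm))
    have hlog : 0 ≤ ∑ σ : K →ₐ[ℚ] ℂ, Real.log (‖σ (y i)‖ ^ 2) := by
      rw [← Real.log_prod fun σ _ => (pow_pos (hpos σ) 2).ne', Finset.prod_pow]
      exact Real.log_nonneg (one_le_pow₀ h1)
    have hle : ∑ σ : K →ₐ[ℚ] ℂ, Real.log (‖σ (y i)‖ ^ 2) ≤ ∑ σ : K →ₐ[ℚ] ℂ, (‖σ (y i)‖ ^ 2 - 1) :=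
      Finset.sum_le_sum fun σ _ => Real.log_le_sub_one_of_pos (pow_pos (hpos σ) 2)
    simp only [Finset.sum_sub_distrib, Finset.sum_const, nsmul_eq_mul, mul_one, Finset.card_univ] at hle
    linarith
  have hfix : ∀ σ : K →ₐ[ℚ] ℂ, ∑ i, ‖σ (y i)‖ ^ 2 = (R : ℝ) := by
    intro σ
    apply Complex.ofReal_injective
    rw [Complex.ofReal_sum]
    have h2 : ∀ i, ((‖σ (y i)‖ ^ 2 : ℝ) : ℂ) = σ (y i * ⟨conj (b i), conj_mem_rootField (hb i)⟩) := by
      intro i
      rw [map_mul, algHom_conj σ (y i), Complex.mul_conj']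
      push_cast
      rfl
    rw [Finset.sum_congr rfl fun i _ => h2 i, ← map_sum,
      show (∑ i, y i * ⟨conj (b i), conj_mem_rootField (hb i)⟩ : K) = algebraMap ℚ K R from
        Subtype.ext (by simp [y, hsum]), AlgHom.commutes]
    simp
  have hpos : 0 < Fintype.card (K →ₐ[ℚ] ℂ) := Fintype.card_pos_iff.2 ⟨K.val⟩
  have h := Finset.sum_le_sum (s := (Finset.univ : Finset ι)) fun i _ => hone i
  rw [Finset.sum_comm, Finset.sum_congr rfl fun σ _ => hfix σ] at h
  simp only [Finset.sum_const, nsmul_eq_mul, Finset.card_univ] at h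
  have hR : (0 : ℝ) < Fintype.card (K →ₐ[ℚ] ℂ) := by exact_mod_cast hpos
  nlinarith

end Field

end Cfsg.Agent.Robinson
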