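import Cfsg.Agent.Robinson.Good
import Cfsg.Agent.H81.Gallagher
import Cfsg.Agent.CharInduce.CoprimeExt
import Cfsg.Agent.CharBasic.Integral
import Cfsg.Agent.CharBasic.Kernel

/-!
# The extended character of a Heisenberg group on a coprime symplectic module
-/

open scoped ComplexConjugate
open Cfsg.Agent.CharBasic Cfsg.Agent.BlockBasic

namespace Cfsg.Agent.Robinson

universe u

variable {p : ℕ} [Fact p.Prime]

section Central

variable {K : Type u} [Group K] [Fintype K]

/-- A sum supported on a cyclic subgroup of order `p`. -/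
theorem sum_zpowers {z : K} (hz : orderOf z = p) {F : K → ℂ}
    (h0 : ∀ y, y ∉ Subgroup.zpowers z → F y = 0) : ∑ y, F y = ∑ i ∈ Finset.range p, F (z ^ i) := by
  classical
  subst hz
  rw [← Finset.sum_image (f := F) (g := fun i => z ^ i) fun a ha b hb hab =>
    pow_injOn_Iio_orderOf (Finset.mem_range.1 ha) (Finset.mem_range.1 hb) hab]
  refine (Finset.sum_subset (Finset.subset_univ _) fun y _ hy => h0 y fun hm => hy ?_).symm
  rwa [mem_zpowers_iff_mem_range_orderOf] at hm

theorem central_scalar {θ : K → ℂ} (hθ : Cfsg.IsIrrCharacter K θ) {z : K}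
    (hz : z ∈ Subgroup.center K) (hzp : z ^ p = 1) :
    ∃ ω : ℂ, ω ^ p = 1 ∧ ∀ (y : K) (i : ℕ), θ (y * z ^ i) = ω ^ i * θ y := by
  obtain ⟨n, ρ, hρ, rfl⟩ := id hθ
  obtain ⟨ω, -, -, hω⟩ := exists_central_scalar ρ hz
  have hi : ∀ (y : K) (i : ℕ), ρ.character (y * z ^ i) = ω ^ i * ρ.character y := by
    intro y i
    induction i with
    | zero => simp
    | succ i ih => rw [pow_succ, ← mul_assoc, hω, ih, pow_succ]; ring
  refine ⟨ω, ?_, hi⟩
  have h := hi 1 p
  rw [hzp, mul_one] at h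
  exact (mul_eq_right₀ (IsIrr.one_ne_zero hθ)).1 h.symm

/-- Vanishing off a central subgroup of order `p` reached by commutators, and the degree. -/
theorem vanish_degree {θ : K → ℂ} (hθ : Cfsg.IsIrrCharacter K θ) {z : K} (hz : orderOf z = p)
    {ω : ℂ} (hωp : ω ^ p = 1) (hω1 : ω ≠ 1) (hω : ∀ (y : K) (i : ℕ), θ (y * z ^ i) = ω ^ i * θ y)
    (hconj : ∀ y, y ∉ Subgroup.zpowers z → ∃ (k : K) (i : ℕ), k * y * k⁻¹ = y * z ^ i ∧ ¬ p ∣ i) :
    (∀ y, y ∉ Subgroup.zpowers z → θ y = 0) ∧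
      ∃ d : ℕ, θ 1 = d ∧ 0 < d ∧ d * d * p = Nat.card K := by
  classical
  have hord : orderOf ω = p := orderOf_eq_prime hωp hω1
  have h0 : ∀ y, y ∉ Subgroup.zpowers z → θ y = 0 := by
    intro y hy
    obtain ⟨k, i, hk, hi⟩ := hconj y hy
    have h := IsIrr.isClassFunction hθ y k
    rw [hk, hω] at h
    by_contra hne
    exact hi (hord ▸ orderOf_dvd_of_pow_eq_one ((mul_eq_right₀ hne).1 h))
  obtain ⟨d, hd0, hd⟩ := IsIrr.exists_degree hθ
  refine ⟨h0, d, hd, hd0, ?_⟩
  have h := classInner_irr_self hθ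
  rw [classInner_def, inv_mul_eq_one₀ (by exact_mod_cast Nat.card_pos.ne'),
    sum_zpowers hz (fun y hy => by rw [h0 y hy, zero_mul])] at h
  have hterm : ∀ i, θ (z ^ i) * conj (θ (z ^ i)) = ((d * d : ℕ) : ℂ) := fun i => by
    have h1 := hω 1 i
    rw [one_mul, hd] at h1
    have h2 : ‖ω ^ i‖ = 1 := by
      rw [norm_pow, Complex.norm_eq_one_of_pow_eq_one hωp (Fact.out : p.Prime).ne_zero, one_pow]
    rw [h1, Complex.mul_conj', norm_mul, h2, one_mul, Complex.norm_natCast]
    push_cast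
    ring
  rw [Finset.sum_congr rfl fun i _ => hterm i, Finset.sum_const, Finset.card_range,
    nsmul_eq_mul] at h
  have h' : Nat.card K = p * (d * d) := by exact_mod_cast h
  rw [h', mul_comm]

end Central

variable {C : Type u} [Group C] [Finite C] {M : Type u} [AddCommGroup M] [Module (ZMod p) M]
  [Finite M] {ρ : Representation (ZMod p) C M}

/-- An invariant cocycle. -/
structure Cocycle (ρ : Representation (ZMod p) C M) where
  c : M →ₗ[ZMod p] M →ₗ[ZMod p] ZMod p
  inv : InvForm ρ c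

omit [Finite C] [Finite M] in
@[simp] theorem Cocycle.inv_apply {ρ : Representation (ZMod p) C M} (κ : Cocycle ρ) (h : C) (x y : M) :
    κ.c (ρ h x) (ρ h y) = κ.c x y := κ.inv h x y

/-- The semidirect product of the Heisenberg group of a cocycle by the acting group. -/
@[ext] structure HG (κ : Cocycle ρ) where
  x : M
  z : ZMod p
  g : C

namespace HG

variable {κ : Cocycle ρ}

instance : Mul (HG κ) :=
  ⟨fun a b => ⟨a.x + ρ a.g b.x, a.z + b.z + κ.c a.x (ρ a.g b.x), a.g * b.g⟩⟩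
instance : One (HG κ) := ⟨⟨0, 0, 1⟩⟩
instance : Inv (HG κ) := ⟨fun a => ⟨-ρ a.g⁻¹ a.x, -a.z + κ.c a.x a.x, a.g⁻¹⟩⟩

@[simp] theorem mul_x (a b : HG κ) : (a * b).x = a.x + ρ a.g b.x := rfl
@[simp] theorem mul_z (a b : HG κ) : (a * b).z = a.z + b.z + κ.c a.x (ρ a.g b.x) := rfl
@[simp] theorem mul_g (a b : HG κ) : (a * b).g = a.g * b.g := rfl
@[simp] theorem one_x : (1 : HG κ).x = 0 := rfl
@[simp] theorem one_z : (1 : HG κ).z = 0 := rfl
@[simp] theorem one_g : (1 : HG κ).g = 1 := rfl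
@[simp] theorem inv_x (a : HG κ) : a⁻¹.x = -ρ a.g⁻¹ a.x := rfl
@[simp] theorem inv_z (a : HG κ) : a⁻¹.z = -a.z + κ.c a.x a.x := rfl
@[simp] theorem inv_g (a : HG κ) : a⁻¹.g = a.g⁻¹ := rfl

instance : Group (HG κ) := Group.ofLeftAxioms
  (fun a b d => by
    ext
    · simp [map_add, map_mul, add_assoc]
    · simp only [mul_z, mul_x, mul_g, map_add, map_mul, LinearMap.add_apply, Module.End.mul_apply,
        Cocycle.inv_apply]
      ring
    · simp [mul_assoc])
  (fun a => by ext <;> simp)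
  (fun a => by
    ext
    · simp
    · simp only [mul_z, inv_z, inv_x, inv_g, map_neg, LinearMap.neg_apply, Cocycle.inv_apply, one_z]
      ring
    · simp)

instance : Finite (HG κ) :=
  Finite.of_injective (fun a : HG κ => (a.x, a.z, a.g)) fun a b h => by
    simp only [Prod.mk.injEq] at h
    exact HG.ext h.1 h.2.1 h.2.2

/-- The projection onto the acting group. -/
def pr (κ : Cocycle ρ) : HG κ →* C where
  toFun a := a.g
  map_one' := rfl
  map_mul' _ _ := rfl

/-- The section. -/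
def sec (κ : Cocycle ρ) : C →* HG κ where
  toFun h := ⟨0, 0, h⟩
  map_one' := rfl
  map_mul' a b := by ext <;> simp

/-- Elements of the Heisenberg group. -/
def nx (κ : Cocycle ρ) (x : M) (z : ZMod p) : HG κ := ⟨x, z, 1⟩

@[simp] theorem nx_x (x : M) (z : ZMod p) : (nx κ x z).x = x := rfl
@[simp] theorem nx_z (x : M) (z : ZMod p) : (nx κ x z).z = z := rfl
@[simp] theorem nx_g (x : M) (z : ZMod p) : (nx κ x z).g = 1 := rfl
@[simp] theorem sec_x (h : C) : (sec κ h).x = 0 := rfl
@[simp] theorem sec_z (h : C) : (sec κ h).z = 0 := rfl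
@[simp] theorem sec_g (h : C) : (sec κ h).g = h := rfl

/-- The central element. -/
def zc (κ : Cocycle ρ) : HG κ := nx κ 0 1

theorem zc_pow (i : ℕ) : zc κ ^ i = nx κ 0 (i : ZMod p) := by
  induction i with
  | zero => ext <;> simp
  | succ i ih => rw [pow_succ, ih]; ext <;> simp [zc]

theorem zc_center : zc κ ∈ Subgroup.center (HG κ) :=
  Subgroup.mem_center_iff.2 fun a => by ext <;> simp [zc, add_comm]

theorem zc_order : orderOf (zc κ) = p := by
  refine orderOf_eq_prime (by rw [zc_pow]; ext <;> simp) fun h => ?_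
  have := congrArg HG.z h
  simp [zc] at this

theorem mul_zc_pow (a : HG κ) (i : ℕ) : a * zc κ ^ i = ⟨a.x, a.z + i, a.g⟩ := by
  rw [zc_pow]; ext <;> simp

theorem eq_pow (a : HG κ) (hx : a.x = 0) (hg : a.g = 1) : a = zc κ ^ a.z.val := by
  rw [zc_pow]; ext <;> simp [hx, hg]

theorem conj_nx (w : M) (a : HG κ) :
    nx κ w 0 * a * (nx κ w 0)⁻¹ =
      ⟨w + a.x - ρ a.g w, a.z + κ.c w a.x + κ.c w w - κ.c (w + a.x) (ρ a.g w), a.g⟩ := by
  ext <;> simp <;> abel

theorem conj_fixed {w : M} {a : HG κ} (hw : ρ a.g w = w) :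
    nx κ w 0 * a * (nx κ w 0)⁻¹ = ⟨a.x, a.z + (κ.c w a.x - κ.c a.x w), a.g⟩ := by
  rw [conj_nx, hw]
  ext <;> simp <;> abel

end HG

open HG

variable {Mi : Ideal Cfsg.AlgInt} {N : ℕ}

/-- The alternating case. -/
theorem good_alternating (hM : Cfsg.IsPModular p Mi) (hpC : ¬ p ∣ Nat.card C) (hN : Nat.card C ∣ N)
    {c : M →ₗ[ZMod p] M →ₗ[ZMod p] ZMod p} (hinv : InvForm ρ c) (hnd : LNd (c - c.flip)) :
    Good Mi N ρ := by
  classical
  cases nonempty_fintype C
  cases nonempty_fintype M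
  let κ : Cocycle ρ := ⟨c, hinv⟩
  haveI : Fintype (HG κ) := Fintype.ofFinite _
  set H := (pr κ).ker with hH
  haveI : Fintype H := Fintype.ofFinite _
  have hmemH : ∀ a : HG κ, a ∈ H ↔ a.g = 1 := fun a => Iff.rfl
  let z0 : H := ⟨zc κ, rfl⟩
  have hz0 : orderOf z0 = p := (Subgroup.orderOf_mk (zc κ) _).trans zc_order
  have hz0c : z0 ∈ Subgroup.center H :=
    Subgroup.mem_center_iff.2 fun a => Subtype.ext (Subgroup.mem_center_iff.1 (zc_center (κ := κ)) (a : HG κ))
  have hpow : ∀ i : ℕ, ((z0 ^ i : H) : HG κ) = zc κ ^ i := fun i => rfl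
  have hzp : ∀ a : H, a ∈ Subgroup.zpowers z0 ↔ (a : HG κ).x = 0 := fun a => by
    constructor
    · intro h
      rw [mem_zpowers_iff_mem_range_orderOf, Finset.mem_image] at h
      obtain ⟨i, -, rfl⟩ := h
      rw [hpow, zc_pow, nx_x]
    · intro h
      rw [show a = z0 ^ (a : HG κ).z.val from Subtype.ext (eq_pow _ h ((hmemH _).1 a.2))]
      exact Subgroup.npow_mem_zpowers _ _
  have hconjH : ∀ y : H, y ∉ Subgroup.zpowers z0 →
      ∃ (k : H) (i : ℕ), k * y * k⁻¹ = y * z0 ^ i ∧ ¬ p ∣ i := by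
    intro y hy
    rw [hzp] at hy
    obtain ⟨w, hw⟩ : ∃ w, (c - c.flip) (y : HG κ).x w ≠ 0 := by
      by_contra hcon
      push Not at hcon
      exact hy (hnd _ hcon)
    refine ⟨⟨nx κ w 0, rfl⟩, (c w (y : HG κ).x - c (y : HG κ).x w).val, Subtype.ext ?_, fun hd => ?_⟩
    · show nx κ w 0 * (y : HG κ) * (nx κ w 0)⁻¹ = (y : HG κ) * _
      rw [conj_fixed (by rw [(hmemH _).1 y.2, map_one]; rfl), hpow, mul_zc_pow,
        ZMod.natCast_zmod_val]
    · rw [← ZMod.natCast_eq_zero_iff, ZMod.natCast_zmod_val] at hd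
      apply hw
      simp only [LinearMap.sub_apply, LinearMap.flip_apply]
      linear_combination -hd
  -- a faithful character of the Heisenberg group
  obtain ⟨θ, hθ⟩ := exists_irr_ne_of_ne_one (g := z0) fun h => by
    rw [h, orderOf_one] at hz0
    exact (Fact.out : p.Prime).one_lt.ne hz0
  obtain ⟨ω, hωp, hω⟩ := central_scalar θ.2 hz0c (hz0 ▸ pow_orderOf_eq_one z0)
  have hω1 : ω ≠ 1 := fun h => hθ (by simpa [h] using hω 1 1)
  obtain ⟨hθ0, d, hd, hd0, hdd⟩ := vanish_degree θ.2 hz0 hωp hω1 hω hconjH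
  have hcardH : Nat.card H = Nat.card M * p := by
    refine Eq.trans (Nat.card_congr ?_) (by rw [Nat.card_prod, Nat.card_zmod] : Nat.card (M × ZMod p) = _)
    exact
      { toFun := fun a => ((a : HG κ).x, (a : HG κ).z)
        invFun := fun q => ⟨nx κ q.1 q.2, rfl⟩
        left_inv := fun a => Subtype.ext (HG.ext rfl rfl ((hmemH _).1 a.2).symm)
        right_inv := fun q => rfl }
  have hd2 : d * d = Nat.card M := Nat.eq_of_mul_eq_mul_right (Fact.out : p.Prime).pos (hdd.trans hcardH)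
  obtain ⟨m, hm⟩ : ∃ m, Nat.card M = p ^ m :=
    ⟨_, by rw [Module.natCard_eq_pow_finrank (K := ZMod p), Nat.card_zmod]⟩
  have hidx : H.index = Nat.card C := by
    rw [hH, Subgroup.index_ker, MonoidHom.range_eq_top_of_surjective _ fun h => ⟨sec κ h, rfl⟩]
    exact Subgroup.card_top
  -- its extension
  obtain ⟨χ, hχ, hres⟩ : ∃ χ : HG κ → ℂ, Cfsg.IsIrrCharacter (HG κ) χ ∧
      ∀ a : H, χ a = (θ : H → ℂ) a := by
    refine CharInduce.exists_extension_of_coprime θ.2 (fun g a => ?_) hd ?_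
    · by_cases ha : (a : HG κ).x = 0
      · refine congrArg _ (Subtype.ext ?_)
        show g * (a : HG κ) * g⁻¹ = a
        rw [eq_pow _ ha ((hmemH _).1 a.2),
          Subgroup.mem_center_iff.1 (pow_mem zc_center _) g, mul_inv_cancel_right]
      · have ha' : (g * (a : HG κ) * g⁻¹).x ≠ 0 := by
          have e : (g * (a : HG κ) * g⁻¹).x = ρ g.g (a : HG κ).x := by
            simp [(hmemH _).1 a.2, map_neg]
          rw [e]
          intro h0
          refine ha ?_
          have := congrArg (ρ g.g⁻¹) h0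
          rwa [← Module.End.mul_apply, ← map_mul, inv_mul_cancel, map_one, map_zero,
            Module.End.one_apply] at this
        rw [hθ0 a (by rw [hzp]; exact ha), hθ0 _ (by rw [hzp]; exact ha')]
    · have hdet : Cfsg.detOrder (θ : H → ℂ) ∣ Nat.card H := by
        obtain ⟨n, τ, hτ, hτθ⟩ := θ.2
        rw [CharInduce.detOrder_eq τ hτθ]
        exact CharInduce.orderOf_hom_dvd_card _
      refine Nat.Coprime.coprime_dvd_right (Nat.mul_dvd_mul hdet ⟨d, rfl⟩ : _ ∣ Nat.card H * (d * d)) ?_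
      rw [hidx, hcardH, hd2, hm, ← pow_succ, ← pow_add]
      exact Nat.Coprime.pow_right _ ((Fact.out : p.Prime).coprime_iff_not_dvd.2 hpC).symm
  have hχ1 : χ 1 = d := (hres 1).trans hd
  have hχω : ∀ (a : HG κ) (i : ℕ), χ (a * zc κ ^ i) = ω ^ i * χ a := by
    obtain ⟨ω', -, hω'⟩ := central_scalar hχ zc_center (zc_order (κ := κ) ▸ pow_orderOf_eq_one _)
    have h1 := hω' 1 1
    have h2 := hω 1 1
    simp only [one_mul, pow_one] at h1 h2
    rw [hres z0, h2, hd, hχ1] at h1
    have hdc : (d : ℂ) ≠ 0 := by exact_mod_cast hd0.ne'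
    rw [mul_right_cancel₀ hdc h1]
    exact hω'
  have hnorm : ‖ω‖ = 1 := Complex.norm_eq_one_of_pow_eq_one hωp (Fact.out : p.Prime).ne_zero
  have hωω : ∀ i : ℕ, ω ^ i * conj (ω ^ i) = 1 := fun i => by
    rw [Complex.mul_conj', norm_pow, hnorm]; simp
  have hfixa : ∀ h, ∀ x ∈ fixSub ρ h, (∀ y ∈ fixSub ρ h, (c - c.flip) x y = 0) → x = 0 := by
    intro h x hx hxy
    refine hnd x fun z => ?_
    obtain ⟨f, hf, y, ⟨w, rfl⟩, rfl⟩ := Submodule.mem_sup.1
      (show z ∈ fixSub ρ h ⊔ LinearMap.range (LinearMap.id - ρ h) by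
        rw [(fix_isCompl_range hpC h).sup_eq_top]; trivial)
    rw [mem_fixSub] at hx
    have e1 : c x (ρ h w) = c x w := by conv_lhs => rw [← hx, hinv]
    have e2 : c (ρ h w) x = c w x := by conv_lhs => rw [← hx, hinv]
    rw [map_add, hxy f hf, zero_add]
    simp only [LinearMap.sub_apply, LinearMap.id_apply, LinearMap.flip_apply, map_sub, e1, e2]
    ring
  have hvan : ∀ (h : C) (x : M) (z : ZMod p), ρ h x = x → x ≠ 0 → χ (⟨x, z, h⟩ : HG κ) = 0 := by
    intro h x z hx hx0
    obtain ⟨w, hw, hw'⟩ : ∃ w ∈ fixSub ρ h, (c - c.flip) x w ≠ 0 := by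
      by_contra hcon
      push Not at hcon
      exact hx0 (hfixa h x hx hcon)
    have h1 := IsIrr.isClassFunction hχ (⟨x, z, h⟩ : HG κ) (nx κ w 0)
    rw [conj_fixed (show ρ (⟨x, z, h⟩ : HG κ).g w = w from (mem_fixSub ρ).1 hw),
      ← show (⟨x, z, h⟩ : HG κ) * zc κ ^ (c w x - c x w).val = ⟨x, z + (c w x - c x w), h⟩ by
        rw [mul_zc_pow, ZMod.natCast_zmod_val], hχω] at h1
    by_contra hne
    have h2 := orderOf_dvd_of_pow_eq_one ((mul_eq_right₀ hne).1 h1)
    rw [orderOf_eq_prime hωp hω1, ← ZMod.natCast_eq_zero_iff, ZMod.natCast_zmod_val] at h2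
    apply hw'
    simp only [LinearMap.sub_apply, LinearMap.flip_apply]
    linear_combination -h2
  let A : C → ℝ := fun h => ‖χ (sec κ h)‖ ^ 2
  have hA : ∀ (h : C) (x : M) (z : ZMod p), ‖χ (⟨x, z, h⟩ : HG κ)‖ ^ 2 =
      if x ∈ LinearMap.range (LinearMap.id - ρ h) then A h else 0 := by
    intro h x z
    obtain ⟨f, hf, y, ⟨w, rfl⟩, rfl⟩ := Submodule.mem_sup.1
      (show x ∈ fixSub ρ h ⊔ LinearMap.range (LinearMap.id - ρ h) by
        rw [(fix_isCompl_range hpC h).sup_eq_top]; trivial)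
    obtain ⟨k, hk⟩ : ∃ k : ℕ, χ (⟨f + (LinearMap.id - ρ h : M →ₗ[ZMod p] M) w, z, h⟩ : HG κ) =
        ω ^ k * χ (⟨f, 0, h⟩ : HG κ) := by
      refine ⟨(z - (c w f + c w w - c (w + f) (ρ h w))).val, ?_⟩
      rw [← IsIrr.isClassFunction hχ (⟨f, 0, h⟩ : HG κ) (nx κ w 0), conj_nx, ← hχω, mul_zc_pow,
        ZMod.natCast_zmod_val]
      congr 1
      ext <;> simp [κ] <;> abel
    rw [hk, norm_mul, norm_pow, hnorm, one_pow, one_mul]
    by_cases hf0 : f = 0
    · subst hf0
      rw [if_pos (by simp)]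
      rfl
    · rw [if_neg fun hmem => hf0 ?_, hvan h f 0 ((mem_fixSub ρ).1 hf) hf0, norm_zero]
      · norm_num
      · have h2 := Submodule.sub_mem _ hmem (LinearMap.mem_range_self (LinearMap.id - ρ h) w)
        rw [add_sub_cancel_right] at h2
        exact Submodule.disjoint_def.1 (fix_isCompl_range hpC h).disjoint f hf h2
  -- the norm on a coset
  let r : C → ℝ := fun h => (Nat.card (LinearMap.range (LinearMap.id - ρ h) : Submodule (ZMod p) M) : ℝ)
  have hrπ : ∀ h, r h * (fixCard ρ h : ℝ) = (Nat.card M : ℝ) := fun h => by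
    simp only [r, fixCard]
    rw [card_of_isCompl (fix_isCompl_range (ρ := ρ) hpC h)]
    push_cast
    ring
  have hπ0 : ∀ h, (fixCard ρ h : ℝ) ≠ 0 := fun h => by
    rw [fixCard]; exact_mod_cast Nat.card_pos.ne'
  let D : C → ℝ := fun h => A h * r h - Nat.card M
  have hDcl : ∀ a b, D (b * a * b⁻¹) = D a := by
    intro a b
    have e1 : A (b * a * b⁻¹) = A a := by
      simp only [A, map_mul, map_inv, IsIrr.isClassFunction hχ _ _]
    have e2 : fixCard ρ (b * a * b⁻¹) = fixCard ρ a := by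
      exact_mod_cast algSpan_isClassFunction (algSpan_fixCard (ρ := ρ)) a b
    have e3 : r (b * a * b⁻¹) = r a := mul_right_cancel₀ (hπ0 a) (by
      rw [hrπ, ← e2, hrπ])
    simp only [D, e1, e3]
  have hkey : ∀ f : C → ℝ, (∀ a b, f (b * a * b⁻¹) = f a) → ∑ h, f h * D h = 0 := by
    intro f hf
    haveI : Fintype (HG κ ⧸ H) := Fintype.ofFinite _
    let e := QuotientGroup.quotientKerEquivOfSurjective (pr κ) fun h => ⟨sec κ h, rfl⟩
    have hres' : Cfsg.IsIrrCharacter H (fun a : H => χ a) := by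
      rw [show (fun a : H => χ a) = θ from funext hres]; exact θ.2
    have h1 := H81.classInner_mul_conj H hχ hres' (f := fun q => ((f (e q) : ℝ) : ℂ))
      (fun a b => by simp only [map_mul, map_inv, hf])
    simp only [classInner_def, map_mul, Complex.conj_ofReal, one_mul, H81.inflate] at h1
    rw [Fintype.sum_equiv e.toEquiv (fun q => ((f (e q) : ℝ) : ℂ)) (fun h => ((f h : ℝ) : ℂ))
      (fun q => rfl), Nat.card_congr e.toEquiv] at h1
    have hGcard : Nat.card (HG κ) = Nat.card C * (Nat.card M * p) := by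
      rw [← hcardH, ← hidx, Subgroup.index_mul_card]
    have hsum : ∑ a : HG κ, χ a * (conj (χ a) * ((f (e (a : HG κ ⧸ H)) : ℝ) : ℂ)) =
        ((∑ h, f h * (A h * r h * p) : ℝ) : ℂ) := by
      rw [Fintype.sum_equiv ({ toFun := fun a => (a.g, a.x, a.z)
                               invFun := fun q => ⟨q.2.1, q.2.2, q.1⟩
                               left_inv := fun a => rfl
                               right_inv := fun q => rfl } : HG κ ≃ C × M × ZMod p) _
          (fun q => ((f q.1 * ‖χ (⟨q.2.1, q.2.2, q.1⟩ : HG κ)‖ ^ 2 : ℝ) : ℂ)) fun a => ?_,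
        ← Complex.ofReal_sum]
      · congr 1
        rw [Fintype.sum_prod_type]
        refine Finset.sum_congr rfl fun h _ => ?_
        show ∑ q : M × ZMod p, f h * ‖χ (⟨q.1, q.2, h⟩ : HG κ)‖ ^ 2 = f h * _
        rw [← Finset.mul_sum]
        congr 1
        rw [Fintype.sum_prod_type]
        simp only [hA, Finset.sum_const, Finset.card_univ, ZMod.card, nsmul_eq_mul]
        rw [← Finset.mul_sum, ← Finset.sum_filter, Finset.sum_const, nsmul_eq_mul,
          ← Fintype.card_subtype, ← Nat.card_eq_fintype_card]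
        simp only [r]
        ring
      · show χ a * (conj (χ a) * ((f a.g : ℝ) : ℂ)) = ((f a.g * ‖χ a‖ ^ 2 : ℝ) : ℂ)
        rw [← mul_assoc, Complex.mul_conj']
        push_cast
        ring
    rw [hsum, hGcard] at h1
    have h2 : ((Nat.card C : ℝ) * ((Nat.card M : ℝ) * p))⁻¹ * ∑ h, f h * (A h * r h * p) =
        (Nat.card C : ℝ)⁻¹ * ∑ h, f h := by
      apply Complex.ofReal_injective
      push_cast at h1 ⊢
      exact h1
    have hC0 : (Nat.card C : ℝ) ≠ 0 := by exact_mod_cast Nat.card_pos.ne'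
    have hM0 : (Nat.card M : ℝ) ≠ 0 := by exact_mod_cast Nat.card_pos.ne'
    have hp0 : (p : ℝ) ≠ 0 := by exact_mod_cast (Fact.out : p.Prime).ne_zero
    rw [show ∑ h, f h * (A h * r h * p) = (∑ h, f h * (A h * r h)) * p by
      rw [Finset.sum_mul]; exact Finset.sum_congr rfl fun h _ => by ring] at h2
    field_simp at h2
    simp only [D, mul_sub, Finset.sum_sub_distrib, ← Finset.sum_mul, ← mul_assoc]
    linarith
  have hD : ∀ h, D h = 0 := fun h => by
    have := (Finset.sum_eq_zero_iff_of_nonneg fun h _ => mul_self_nonneg (D h)).1 (hkey D hDcl) h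
      (Finset.mem_univ h)
    exact mul_self_eq_zero.1 this
  have habs : ∀ h, χ (sec κ h) * conj (χ (sec κ h)) = (fixCard ρ h : ℂ) := fun h => by
    have h1 := hD h
    simp only [D, sub_eq_zero] at h1
    rw [← hrπ h, mul_comm (A h)] at h1
    have hr0 : r h ≠ 0 := by simp only [r]; exact_mod_cast Nat.card_pos.ne'
    rw [Complex.mul_conj', ← Complex.ofReal_pow, show ‖χ (sec κ h)‖ ^ 2 = (fixCard ρ h : ℝ) from
      mul_left_cancel₀ hr0 h1, Complex.ofReal_natCast]
  -- the fixed Heisenberg subgroup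
  have hdiv : ∀ h, ∃ (k : ℕ) (S : ℂ), IsIntegral ℤ S ∧
      (d : ℂ) * conj (χ (sec κ h)) / (fixCard ρ h : ℂ) = (k : ℂ) * S ∧
      k * k * fixCard ρ h = Nat.card M := by
    intro h
    let H1 : Subgroup (HG κ) :=
      { carrier := {a | a.g = 1 ∧ a.x ∈ fixSub ρ h}
        one_mem' := ⟨rfl, zero_mem _⟩
        mul_mem' := fun {a b} ha hb => ⟨by simp [ha.1, hb.1], by
          simp only [mul_x, ha.1, map_one, Module.End.one_apply]; exact add_mem ha.2 hb.2⟩
        inv_mem' := fun {a} ha => ⟨by simp [ha.1], by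
          simp only [inv_x, ha.1, inv_one, map_one, Module.End.one_apply]; exact neg_mem ha.2⟩ }
    haveI : Fintype H1 := Fintype.ofFinite _
    let z1 : H1 := ⟨zc κ, rfl, zero_mem _⟩
    have hz1 : orderOf z1 = p := (Subgroup.orderOf_mk (zc κ) _).trans zc_order
    have hz1p : ∀ a : H1, a ∈ Subgroup.zpowers z1 ↔ (a : HG κ).x = 0 := fun a => by
      constructor
      · intro ha
        rw [mem_zpowers_iff_mem_range_orderOf, Finset.mem_image] at ha
        obtain ⟨i, -, rfl⟩ := ha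
        rw [Subgroup.coe_pow, show (z1 : HG κ) = zc κ from rfl, zc_pow, nx_x]
      · intro ha
        rw [show a = z1 ^ (a : HG κ).z.val from Subtype.ext (eq_pow _ ha a.2.1)]
        exact Subgroup.npow_mem_zpowers _ _
    have hres0 : ∀ a : H1, a ∉ Subgroup.zpowers z1 → χ a = 0 := fun a ha => by
      rw [hz1p] at ha
      rw [show χ (a : HG κ) = (θ : H → ℂ) ⟨a, a.2.1⟩ from hres ⟨_, a.2.1⟩]
      exact hθ0 _ (by rw [hzp]; exact ha)
    have hresc : Cfsg.IsCharacter H1 (fun a : H1 => χ a) :=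
      CharInduce.IsChar.res (IsIrr.isCharacter hχ) H1
    obtain ⟨η, hη⟩ : ∃ η : Cfsg.IrrCharacter H1,
        Cfsg.classInner (fun a : H1 => χ a) (η : H1 → ℂ) ≠ 0 := by
      by_contra hcon
      push Not at hcon
      have h1 := congrFun (classFunction_expansion (IsChar.isClassFunction hresc)) 1
      simp only [hcon, zero_smul, Finset.sum_const_zero, Pi.zero_apply, Subgroup.coe_one, hχ1] at h1
      exact hd0.ne' (by exact_mod_cast h1)
    have hz1c : z1 ∈ Subgroup.center H1 :=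
      Subgroup.mem_center_iff.2 fun a => Subtype.ext (Subgroup.mem_center_iff.1 (zc_center (κ := κ)) (a : HG κ))
    obtain ⟨ω', hω'p, hω'⟩ := central_scalar η.2 hz1c (hz1 ▸ pow_orderOf_eq_one z1)
    obtain ⟨e', -, he'⟩ := IsIrr.exists_degree η.2
    have hterm : ∀ i : ℕ, χ ((z1 ^ i : H1) : HG κ) = ω ^ i * d := fun i => by
      have h1 := hχω 1 i
      rw [one_mul, hχ1] at h1
      exact h1
    have hη' : ∀ i : ℕ, (η : H1 → ℂ) (z1 ^ i) = ω' ^ i * e' := fun i => by
      have h1 := hω' 1 i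
      rwa [one_mul, he'] at h1
    have hωeq : ω' = ω := by
      by_contra hne
      apply hη
      rw [classInner_def, sum_zpowers hz1 (fun y hy => by rw [hres0 y hy, zero_mul])]
      simp only [hterm, hη', map_mul, Complex.conj_natCast, map_pow]
      have hgeo : ∑ i ∈ Finset.range p, (ω * conj ω') ^ i = 0 := by
        refine (mul_eq_zero.1 (geom_sum_mul (ω * conj ω') p ▸ ?_ :
          (∑ i ∈ Finset.range p, (ω * conj ω') ^ i) * (ω * conj ω' - 1) = 0)).resolve_right fun h0 => hne ?_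
        · rw [mul_pow, ← map_pow, hωp, hω'p, map_one, one_mul, sub_self]
        · rw [sub_eq_zero] at h0
          have h1 : ω' * conj ω' = 1 := by
            rw [Complex.mul_conj', Complex.norm_eq_one_of_pow_eq_one hω'p (Fact.out : p.Prime).ne_zero]
            simp
          calc ω' = ω' * (ω * conj ω') := by rw [h0, mul_one]
            _ = ω * (ω' * conj ω') := by ring
            _ = ω := by rw [h1, mul_one]
      rw [Finset.sum_congr rfl fun i _ => show ω ^ i * (d : ℂ) * (conj ω' ^ i * (e' : ℂ)) =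
        ((d : ℂ) * e') * (ω * conj ω') ^ i by ring, ← Finset.mul_sum, hgeo, mul_zero, mul_zero]
    rw [hωeq] at hω' hη'
    have hconj1 : ∀ y : H1, y ∉ Subgroup.zpowers z1 →
        ∃ (k : H1) (i : ℕ), k * y * k⁻¹ = y * z1 ^ i ∧ ¬ p ∣ i := by
      intro y hy
      rw [hz1p] at hy
      obtain ⟨w, hw, hw'⟩ : ∃ w ∈ fixSub ρ h, (c - c.flip) (y : HG κ).x w ≠ 0 := by
        by_contra hcon
        push Not at hcon
        exact hy (hfixa h _ y.2.2 hcon)
      refine ⟨⟨nx κ w 0, rfl, hw⟩, (c w (y : HG κ).x - c (y : HG κ).x w).val, Subtype.ext ?_,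
        fun hd' => ?_⟩
      · show nx κ w 0 * (y : HG κ) * (nx κ w 0)⁻¹ = (y : HG κ) * _
        rw [conj_fixed (by rw [y.2.1, map_one]; rfl), Subgroup.coe_pow,
          show (z1 : HG κ) = zc κ from rfl, mul_zc_pow, ZMod.natCast_zmod_val]
      · rw [← ZMod.natCast_eq_zero_iff, ZMod.natCast_zmod_val] at hd'
        apply hw'
        simp only [LinearMap.sub_apply, LinearMap.flip_apply]
        linear_combination -hd'
    obtain ⟨hη0, e, he, he0, hee⟩ := vanish_degree η.2 hz1 hωp hω1 hω' hconj1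
    have hcard1 : Nat.card H1 = fixCard ρ h * p := by
      refine Eq.trans (Nat.card_congr ?_) (by rw [Nat.card_prod, Nat.card_zmod, fixCard] :
        Nat.card (↥(fixSub ρ h) × ZMod p) = _)
      exact
        { toFun := fun a => (⟨(a : HG κ).x, a.2.2⟩, (a : HG κ).z)
          invFun := fun q => ⟨nx κ q.1 q.2, rfl, q.1.2⟩
          left_inv := fun a => Subtype.ext (HG.ext rfl rfl a.2.1.symm)
          right_inv := fun q => rfl }
    have he2 : e * e = fixCard ρ h :=
      Nat.eq_of_mul_eq_mul_right (Fact.out : p.Prime).pos (hee.trans hcard1)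
    obtain ⟨k, hk⟩ : e ∣ d := by
      refine (Nat.pow_dvd_pow_iff two_ne_zero).1 ?_
      rw [sq, sq, he2, hd2]
      exact ⟨Nat.card (LinearMap.range (LinearMap.id - ρ h) : Submodule (ZMod p) M),
        card_of_isCompl (fix_isCompl_range hpC h)⟩
    have hcom : ∀ a : H1, Commute (a : HG κ) (sec κ h) := fun a => by
      have h1 : ρ h (a : HG κ).x = (a : HG κ).x := a.2.2
      ext <;> simp [a.2.1, h1]
    have hS := algSpan_average (mul_mem (algSpan_commute (IsIrr.isCharacter hχ) H1.subtype hcom)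
      (algSpan_conj (mem_algSpan_char (IsIrr.isCharacter η.2))))
    have hSval : (Nat.card H1 : ℂ)⁻¹ * ∑ a : H1,
        ((fun a : H1 => χ (H1.subtype a * sec κ h)) * fun a : H1 => conj ((η : H1 → ℂ) a)) a =
        χ (sec κ h) / e := by
      rw [sum_zpowers hz1 (fun y hy => by simp [hη0 y hy])]
      simp only [Pi.mul_apply]
      have ht : ∀ i : ℕ, χ (H1.subtype (z1 ^ i) * sec κ h) * conj ((η : H1 → ℂ) (z1 ^ i)) =
          χ (sec κ h) * e := fun i => by
        have h1 := hω' 1 i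
        rw [one_mul, he] at h1
        rw [h1, map_pow, show H1.subtype z1 = zc κ from rfl,
          ← Subgroup.mem_center_iff.1 (pow_mem zc_center i) (sec κ h), hχω, map_mul,
          Complex.conj_natCast]
        linear_combination (χ (sec κ h) * e) * hωω i
      rw [Finset.sum_congr rfl fun i _ => ht i, Finset.sum_const, Finset.card_range, hcard1,
        nsmul_eq_mul, ← he2]
      push_cast
      have he0' : (e : ℂ) ≠ 0 := by exact_mod_cast he0.ne'
      have hp0 : (p : ℂ) ≠ 0 := by exact_mod_cast (Fact.out : p.Prime).ne_zero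
      field_simp
    rw [hSval] at hS
    refine ⟨k, conj (χ (sec κ h) / e), IsIntegral.map (starRingEnd ℂ).toIntAlgHom hS, ?_, ?_⟩
    · rw [← he2, hk, map_div₀, Complex.conj_natCast]
      push_cast
      have he0' : (e : ℂ) ≠ 0 := by exact_mod_cast he0.ne'
      field_simp
    · rw [← he2, ← hd2, hk]
      ring
  refine ⟨fun h => (d : ℂ) * conj (χ (sec κ h)) / (fixCard ρ h : ℂ), fun h => ?_, fun h => ?_,
    fun h => ?_, fun h hh => ?_, ?_⟩
  · obtain ⟨k, S, hS, e, -⟩ := hdiv h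
    show IsIntegral ℤ ((d : ℂ) * conj (χ (sec κ h)) / (fixCard ρ h : ℂ))
    rw [e]
    exact (isIntegral_algebraMap (x := (k : ℤ))).mul hS
  · refine div_mem (mul_mem (natCast_mem _ d) (conj_mem_rootField ?_)) (natCast_mem _ _)
    refine char_mem_rootField (IsIrr.isCharacter hχ) (orderOf_dvd_iff_pow_eq_one.1 ?_)
    exact ((orderOf_map_dvd _ h).trans (orderOf_dvd_natCard h)).trans hN
  · have hπ : (fixCard ρ h : ℂ) ≠ 0 := by exact_mod_cast (hπ0 h)
    rw [map_div₀, map_mul, Complex.conj_natCast, Complex.conj_conj, Complex.conj_natCast, ← hd2]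
    push_cast
    field_simp
    linear_combination ((d : ℂ) * d) * habs h
  · obtain ⟨k, S, hS, e, hk⟩ := hdiv h
    show Cfsg.MemLocalIdeal Mi ((d : ℂ) * conj (χ (sec κ h)) / (fixCard ρ h : ℂ))
    rw [e, mul_comm]
    refine memLocalIdeal_mul hM (memLocalRing_of_isIntegral hM hS) ((memLocalIdeal_natCast_iff hM k).2 ?_)
    have hlt : 0 < Module.finrank (ZMod p) (LinearMap.range (LinearMap.id - ρ h) : Submodule (ZMod p) M) := by
      refine Nat.pos_of_ne_zero fun h0 => hh (LinearMap.ext fun x => ?_)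
      have h1 : (LinearMap.id - ρ h : M →ₗ[ZMod p] M) x ∈ LinearMap.range (LinearMap.id - ρ h) := ⟨x, rfl⟩
      rw [Submodule.finrank_eq_zero.1 h0, Submodule.mem_bot, LinearMap.sub_apply, sub_eq_zero] at h1
      exact h1.symm
    have hcard := card_of_isCompl (fix_isCompl_range (ρ := ρ) hpC h)
    rw [← hk, mul_comm, ← fixCard] at hcard
    have h2 := Nat.eq_of_mul_eq_mul_left (by rw [fixCard]; exact Nat.card_pos) hcard
    rw [Module.natCard_eq_pow_finrank (K := ZMod p), Nat.card_zmod] at h2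
    exact (or_self_iff.1 ((Fact.out : p.Prime).dvd_mul.1 (h2 ▸ dvd_pow_self p hlt.ne')))
  · obtain ⟨T, Q, hQ, hQv⟩ := algSpan_fixCard_inv (ρ := ρ)
    refine ⟨T, ?_⟩
    convert mul_mem (mem_algSpan_smul (a := (d : ℂ)) (isIntegral_algebraMap (x := (d : ℤ)))
      (algSpan_conj (mem_algSpan_char (CharInduce.IsChar.comp (IsIrr.isCharacter hχ) (sec κ))))) hQ using 1
    funext h
    have hπ : (fixCard ρ h : ℂ) ≠ 0 := by exact_mod_cast (hπ0 h)
    rw [← hQv h]
    simp only [Pi.mul_apply, Function.comp_apply]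
    field_simp

end Cfsg.Agent.Robinson
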