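import Cfsg.Agent.Robinson.Gauss
import Cfsg.Agent.Robinson.Heis

/-!
# Orthogonal decomposition of self-dual coprime modules
-/

namespace Cfsg.Agent.Robinson

universe u

variable {p : ℕ} [Fact p.Prime] {C : Type u} [Group C] [Finite C] {Mi : Ideal Cfsg.AlgInt} {N : ℕ}
  {M : Type u} [AddCommGroup M] [Module (ZMod p) M] [Finite M] {ρ : Representation (ZMod p) C M}
  {β : M →ₗ[ZMod p] M →ₗ[ZMod p] ZMod p}

omit [Finite C] [Finite M] in
theorem InvForm.flip_sub (hinv : InvForm ρ β) : InvForm ρ (β - β.flip) := fun h x y => by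
  simp only [LinearMap.sub_apply, LinearMap.flip_apply]
  rw [hinv, hinv]

omit [Finite C] [Finite M] in
theorem invSub_left_orth (hinv : InvForm ρ β) (W : Submodule (ZMod p) M) (hW : InvSub ρ W) :
    InvSub ρ (LinearMap.ker (β.compl₂ W.subtype)) := fun h x hx => by
  rw [LinearMap.mem_ker] at hx ⊢
  refine LinearMap.ext fun w => ?_
  have h1 := LinearMap.congr_fun hx ⟨ρ h⁻¹ w, hW _ _ w.2⟩
  simp only [LinearMap.compl₂_apply, Submodule.coe_subtype, LinearMap.zero_apply] at h1 ⊢
  rw [← hinv h, ← Module.End.mul_apply, ← map_mul, mul_inv_cancel, map_one,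
    Module.End.one_apply] at h1
  exact h1

omit [Finite C] [Finite M] in
theorem mem_left_orth (W : Submodule (ZMod p) M) (x : M) :
    x ∈ LinearMap.ker (β.compl₂ W.subtype) ↔ ∀ w ∈ W, β x w = 0 := by
  rw [LinearMap.mem_ker]
  exact ⟨fun h w hw => LinearMap.congr_fun h ⟨w, hw⟩, fun h => LinearMap.ext fun w => h w w.2⟩

/-- A form with no proper non-degenerate invariant submodule. -/
theorem good_of_atomic (hM : Cfsg.IsPModular p Mi) (hpC : ¬ p ∣ Nat.card C) (hN : Nat.card C ∣ N)
    (hpN : p ∣ N) (hinv : InvForm ρ β) (hnd : LNd β)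
    (hat : ∀ W, InvSub ρ W → LNd (resForm β W) → W = ⊥ ∨ W = ⊤) : Good Mi N ρ := by
  let a := β - β.flip
  have hainv : InvForm ρ a := hinv.flip_sub
  let R := LinearMap.ker a
  have hR : InvSub ρ R := fun h x hx => by
    rw [LinearMap.mem_ker] at hx ⊢
    refine LinearMap.ext fun y => ?_
    have h1 := hainv h x (ρ h⁻¹ y)
    rw [← Module.End.mul_apply, ← map_mul, mul_inv_cancel, map_one, Module.End.one_apply] at h1
    rw [h1, hx]
    rfl
  have hsym : ∀ x ∈ R, ∀ y, β x y = β y x := fun x hx y => by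
    have h1 := LinearMap.congr_fun (LinearMap.mem_ker.1 hx) y
    simp only [a, LinearMap.sub_apply, LinearMap.flip_apply, LinearMap.zero_apply, sub_eq_zero] at h1
    exact h1
  by_cases hR0 : R = ⊥
  · refine good_alternating hM hpC hN hinv fun x hx => ?_
    have : x ∈ R := LinearMap.mem_ker.2 (LinearMap.ext hx)
    rwa [hR0, Submodule.mem_bot] at this
  by_cases hR1 : R = ⊤
  · have hs : ∀ x y, β x y = β y x := fun x y => hsym x (hR1 ▸ Submodule.mem_top) y
    by_cases hp : p = 2
    · subst hp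
      let f : M →ₗ[ZMod 2] ZMod 2 := AddMonoidHom.toZModLinearMap 2
        (AddMonoidHom.mk' (fun x => β x x) fun x y => by
          have h2 : β x y + β x y = 0 := CharTwo.add_self_eq_zero _
          simp only [map_add, LinearMap.add_apply, hs y x]
          linear_combination h2)
      have hf : ∀ x, f x = β x x := fun _ => rfl
      have hD : InvSub ρ (LinearMap.ker f) := fun h x hx => by
        rw [LinearMap.mem_ker, hf] at hx ⊢
        rw [hinv, hx]
      by_cases hD1 : LinearMap.ker f = ⊤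
      · obtain ⟨c, hc, hc'⟩ := exists_cocycle hpC (fun x => LinearMap.mem_ker.1 (by
          rw [hD1]; trivial : x ∈ LinearMap.ker f)) hinv
        exact good_alternating hM hpC hN hc (hc'.symm ▸ hnd)
      · obtain ⟨K, hK, hKc⟩ := exists_inv_compl hpC _ hD
        have hKnd : LNd (resForm β K) := fun x hx => Subtype.ext
          (Submodule.disjoint_def.1 hKc.disjoint _ (LinearMap.mem_ker.2 (hx x)) x.2)
        rcases hat K hK hKnd with rfl | rfl
        · exact absurd (by simpa using hKc.sup_eq_top) hD1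
        · refine good_of_trivial fun h => LinearMap.ext fun x => ?_
          have hbot : LinearMap.ker f = ⊥ := by simpa using hKc.inf_eq_bot
          refine (LinearMap.ker_eq_bot.1 hbot) ?_
          rw [hf, hf, Module.End.one_apply, hinv]
    · exact good_symmetric hM hp hpC hpN hs hinv hnd
  -- the radical of the alternating part is totally isotropic
  let R1 := R ⊓ LinearMap.ker (β.compl₂ R.subtype)
  have hR1i : InvSub ρ R1 := fun h x hx =>
    ⟨hR h x hx.1, invSub_left_orth hinv R hR h x hx.2⟩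
  obtain ⟨K, hK, hKc⟩ := exists_inv_compl hpC R1 hR1i
  have hK' : R ⊓ K = ⊥ := by
    refine (hat (R ⊓ K) (fun h x hx => ⟨hR h x hx.1, hK h x hx.2⟩) fun x hx => ?_).resolve_right
      fun h => hR1 (eq_top_iff.2 (h ▸ inf_le_left))
    have hx1 : (x : M) ∈ LinearMap.ker (β.compl₂ R.subtype) := by
      refine (mem_left_orth R _).2 fun r hr => ?_
      obtain ⟨r1, hr1, k, hk, rfl⟩ := Submodule.mem_sup.1
        (show r ∈ R1 ⊔ K by rw [hKc.sup_eq_top]; trivial)
      have hkR : k ∈ R := by simpa using R.sub_mem hr hr1.1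
      have h1 := hx ⟨k, hkR, hk⟩
      rw [resForm_apply] at h1
      rw [map_add, hsym _ x.2.1 r1, (mem_left_orth R _).1 hr1.2 _ x.2.1, zero_add]
      exact h1
    exact Subtype.ext (Submodule.disjoint_def.1 hKc.disjoint _ ⟨x.2.1, hx1⟩ x.2.2)
  have hiso : ∀ x ∈ R, ∀ r ∈ R, β x r = 0 := by
    intro x hx r hr
    obtain ⟨r1, hr1, k, hk, rfl⟩ := Submodule.mem_sup.1
      (show x ∈ R1 ⊔ K by rw [hKc.sup_eq_top]; trivial)
    have hkR : k ∈ R ⊓ K := ⟨by simpa using R.sub_mem hx hr1.1, hk⟩
    rw [hK', Submodule.mem_bot] at hkR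
    rw [hkR, add_zero]
    exact (mem_left_orth R _).1 hr1.2 r hr
  let Rp := LinearMap.ker (β.compl₂ R.subtype)
  have hRp : InvSub ρ Rp := invSub_left_orth hinv R hR
  obtain ⟨Y, hY, hYc⟩ := exists_inv_compl hpC Rp hRp
  have hRle : R ≤ Rp := fun x hx => (mem_left_orth R x).2 (hiso x hx)
  have hkey : ∀ r ∈ R, ∀ y ∈ Y, (∀ r' ∈ R, β y r' = 0) → (∀ y' ∈ Y, β r y' = 0) →
      r = 0 ∧ y = 0 := by
    intro r hr y hy h1 h2
    refine ⟨hnd r fun z => ?_,
      Submodule.disjoint_def.1 hYc.disjoint y ((mem_left_orth R y).2 h1) hy⟩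
    obtain ⟨s, hs, t, ht, rfl⟩ := Submodule.mem_sup.1
      (show z ∈ Rp ⊔ Y by rw [hYc.sup_eq_top]; trivial)
    rw [map_add, h2 t ht, hsym r hr, (mem_left_orth R s).1 hs r hr, add_zero]
  have hP : R ⊔ Y = ⊤ := by
    refine (hat (R ⊔ Y) (fun h x hx => ?_) fun x hx => ?_).resolve_left
      fun h => hR0 (eq_bot_iff.2 (h ▸ le_sup_left))
    · obtain ⟨r, hr, y, hy, rfl⟩ := Submodule.mem_sup.1 hx
      rw [map_add]
      exact Submodule.add_mem_sup (hR h r hr) (hY h y hy)
    · obtain ⟨r, hr, y, hy, hxe⟩ := Submodule.mem_sup.1 x.2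
      have h1 : ∀ r' ∈ R, β y r' = 0 := fun r' hr' => by
        have := hx ⟨r', Submodule.mem_sup_left hr'⟩
        rw [resForm_apply, ← hxe] at this
        simp only [map_add, LinearMap.add_apply, hiso r hr r' hr', zero_add] at this
        exact this
      have hy0 : y = 0 := Submodule.disjoint_def.1 hYc.disjoint y ((mem_left_orth R y).2 h1) hy
      have h2 : ∀ y' ∈ Y, β r y' = 0 := fun y' hy' => by
        have := hx ⟨y', Submodule.mem_sup_right hy'⟩
        rw [resForm_apply, ← hxe, hy0, add_zero] at this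
        exact this
      refine Subtype.ext ?_
      rw [← hxe, (hkey r hr y hy h1 h2).1, hy0, add_zero]
      rfl
  have hc : IsCompl R Y := ⟨hYc.disjoint.mono_left hRle, codisjoint_iff.2 hP⟩
  let πR := R.subtype.comp (R.projectionOnto Y hc)
  let πY := Y.subtype.comp (Y.projectionOnto R hc.symm)
  have hπR : ∀ r ∈ R, ∀ y ∈ Y, πR (r + y) = r := fun r hr y hy => by
    simp only [πR, LinearMap.comp_apply, Submodule.coe_subtype, map_add]
    rw [Submodule.projectionOnto_apply_left hc ⟨r, hr⟩, Submodule.projectionOnto_apply_right hc ⟨y, hy⟩]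
    simp
  have hπY : ∀ r ∈ R, ∀ y ∈ Y, πY (r + y) = y := fun r hr y hy => by
    simp only [πY, LinearMap.comp_apply, Submodule.coe_subtype, map_add]
    rw [Submodule.projectionOnto_apply_left hc.symm ⟨y, hy⟩,
      Submodule.projectionOnto_apply_right hc.symm ⟨r, hr⟩]
    simp
  have hdec : ∀ x : M, ∃ r ∈ R, ∃ y ∈ Y, r + y = x := fun x =>
    Submodule.mem_sup.1 (show x ∈ R ⊔ Y by rw [hP]; trivial)
  refine good_alternating hM hpC hN (c := β.compl₁₂ πR πY) (fun h x x' => ?_) fun x hx => ?_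
  · obtain ⟨r, hr, y, hy, rfl⟩ := hdec x
    obtain ⟨r', hr', y', hy', rfl⟩ := hdec x'
    rw [map_add (ρ h), map_add (ρ h)]
    simp only [LinearMap.compl₁₂_apply, hπR _ hr _ hy, hπY _ hr' _ hy',
      hπR _ (hR h r hr) _ (hY h y hy), hπY _ (hR h r' hr') _ (hY h y' hy')]
    exact hinv h r y'
  · obtain ⟨r, hr, y, hy, rfl⟩ := hdec x
    simp only [LinearMap.sub_apply, LinearMap.flip_apply, LinearMap.compl₁₂_apply,
      hπR _ hr _ hy, hπY _ hr _ hy] at hx
    have h1 : ∀ r' ∈ R, β y r' = 0 := fun r' hr' => by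
      have := hx r'
      rw [show r' = r' + 0 from (add_zero r').symm, hπR _ hr' _ Y.zero_mem,
        hπY _ hr' _ Y.zero_mem, map_zero, zero_sub, neg_eq_zero, hsym r' hr'] at this
      exact this
    have h2 : ∀ y' ∈ Y, β r y' = 0 := fun y' hy' => by
      have := hx y'
      rw [show y' = 0 + y' from (zero_add y').symm, hπR _ R.zero_mem _ hy',
        hπY _ R.zero_mem _ hy', map_zero, LinearMap.zero_apply, sub_zero] at this
      exact this
    obtain ⟨rfl, rfl⟩ := hkey r hr y hy h1 h2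
    simp

/-- Self-dual modules are good. -/
theorem good_of_nondeg (hM : Cfsg.IsPModular p Mi) (hpC : ¬ p ∣ Nat.card C) (hN : Nat.card C ∣ N)
    (hpN : p ∣ N) : ∀ (n : ℕ) {M : Type u} [AddCommGroup M] [Module (ZMod p) M] [Finite M]
      {ρ : Representation (ZMod p) C M} {β : M →ₗ[ZMod p] M →ₗ[ZMod p] ZMod p},
      Nat.card M = n → InvForm ρ β → LNd β → Good Mi N ρ := by
  intro n
  induction n using Nat.strong_induction_on with
  | _ n ih =>
    intro M _ _ _ ρ β hn hinv hnd
    by_cases hat : ∀ W, InvSub ρ W → LNd (resForm β W) → W = ⊥ ∨ W = ⊤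
    · exact good_of_atomic hM hpC hN hpN hinv hnd hat
    · push Not at hat
      obtain ⟨W, hW, hWnd, hW0, hW1⟩ := hat
      obtain ⟨L, hc, hLnd, hL⟩ := exists_perp hnd W hWnd
      have hLi : InvSub ρ L := fun h x hx => (hL _).2 fun w hw => by
        have h1 := hinv h x (ρ h⁻¹ w)
        rw [← Module.End.mul_apply, ← map_mul, mul_inv_cancel, map_one, Module.End.one_apply] at h1
        rw [h1, (hL x).1 hx _ (hW _ _ hw)]
      have hcard := card_of_isCompl hc
      have hL0 : L ≠ ⊥ := fun h => hW1 (by simpa [h] using hc.sup_eq_top)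
      haveI := (Submodule.nontrivial_iff_ne_bot).2 hW0
      haveI := (Submodule.nontrivial_iff_ne_bot).2 hL0
      have hW2 : 1 < Nat.card W := Finite.one_lt_card
      have hL2 : 1 < Nat.card L := Finite.one_lt_card
      refine good_mul hM hW hLi hc (ih _ ?_ rfl (hinv.res W hW) hWnd) (ih _ ?_ rfl (hinv.res L hLi) hLnd)
      · nlinarith
      · nlinarith

end Cfsg.Agent.Robinson
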