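import Cfsg.Agent.Robinson.Good
import Mathlib.Analysis.SpecialFunctions.Complex.CircleAddChar
import Mathlib.NumberTheory.LegendreSymbol.AddCharacter

/-!
# Gauss sums of invariant symmetric forms
-/

open scoped ComplexConjugate
open Cfsg.Agent.BlockBasic

namespace Cfsg.Agent.Robinson

universe u v

variable {p : ℕ} [Fact p.Prime]

theorem stdChar_pow (a : ZMod p) : (ZMod.stdAddChar a : ℂ) ^ p = 1 := by
  rw [← AddChar.map_nsmul_eq_pow, nsmul_eq_mul, ZMod.natCast_self, zero_mul, AddChar.map_zero_eq_one]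

theorem stdChar_isIntegral (a : ZMod p) : IsIntegral ℤ (ZMod.stdAddChar a : ℂ) :=
  IsIntegral.of_pow (Fact.out : p.Prime).pos (by rw [stdChar_pow]; exact isIntegral_one)

theorem stdChar_conj (a : ZMod p) : conj (ZMod.stdAddChar a : ℂ) = ZMod.stdAddChar (-a) := by
  rw [AddChar.map_neg_eq_inv,
    Complex.inv_eq_conj (Complex.norm_eq_one_of_pow_eq_one (stdChar_pow a) (Fact.out : p.Prime).ne_zero)]

variable {M : Type v} [AddCommGroup M] [Module (ZMod p) M]

/-- The square of the absolute value of a Gauss sum. -/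
theorem gauss_norm [Fintype M] (hp : p ≠ 2) {β : M →ₗ[ZMod p] M →ₗ[ZMod p] ZMod p}
    (hs : ∀ x y, β x y = β y x) (hnd : LNd β) :
    (∑ x, (ZMod.stdAddChar (β x x) : ℂ)) * conj (∑ x, (ZMod.stdAddChar (β x x) : ℂ)) =
      (Nat.card M : ℂ) := by
  classical
  simp only [map_sum, stdChar_conj, Finset.mul_sum, Finset.sum_mul, ← AddChar.map_add_eq_mul]
  have h1 : ∀ y, ∑ x, (ZMod.stdAddChar (β x x + -β y y) : ℂ) =
      ∑ d, (ZMod.stdAddChar (β d d) : ℂ) * ZMod.stdAddChar (β (d + d) y) := fun y => by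
    refine (Fintype.sum_equiv (Equiv.addRight y) _ _ fun d => ?_).symm
    rw [← AddChar.map_add_eq_mul, Equiv.coe_addRight]
    congr 1
    simp only [map_add, LinearMap.add_apply, hs y d]
    ring
  rw [Finset.sum_congr rfl fun y _ => h1 y, Finset.sum_comm]
  simp only [← Finset.mul_sum]
  rw [Finset.sum_eq_single 0]
  · simp [Nat.card_eq_fintype_card]
  · intro d _ hd
    let χ : AddChar M ℂ := ZMod.stdAddChar.compAddMonoidHom (β (d + d)).toAddMonoidHom
    have hχ : ∀ y, (ZMod.stdAddChar (β (d + d) y) : ℂ) = χ y := fun y => rfl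
    simp only [hχ]
    rw [AddChar.sum_eq_zero_of_ne_one, mul_zero]
    intro he
    refine hd ?_
    have h2 : d + d = 0 := hnd _ fun y => by
      refine ZMod.injective_stdAddChar ?_
      rw [AddChar.map_zero_eq_one, hχ, he, AddChar.one_apply]
    rw [← two_smul (ZMod p), smul_eq_zero] at h2
    refine h2.resolve_left fun h => hp ?_
    exact (Nat.prime_dvd_prime_iff_eq Fact.out Nat.prime_two).1
      ((ZMod.natCast_eq_zero_iff 2 p).1 (by exact_mod_cast h))
  · simp

variable {C : Type u} [Group C] [Finite C] [Finite M] {ρ : Representation (ZMod p) C M}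
  {Mi : Ideal Cfsg.AlgInt} {N : ℕ}

/-- The symmetric case. -/
theorem good_symmetric (hM : Cfsg.IsPModular p Mi) (hp : p ≠ 2) (hpC : ¬ p ∣ Nat.card C)
    (hN : p ∣ N) {β : M →ₗ[ZMod p] M →ₗ[ZMod p] ZMod p} (hs : ∀ x y, β x y = β y x)
    (hinv : InvForm ρ β) (hnd : LNd β) : Good Mi N ρ := by
  classical
  cases nonempty_fintype M
  let e : ZMod p → ℂ := fun a => ZMod.stdAddChar a
  let R : C → Submodule (ZMod p) M := fun h => LinearMap.range (LinearMap.id - ρ h)
  let G : C → ℂ := fun h => ∑ x : fixSub ρ h, e (β (x : M) (x : M))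
  let ε : C → ℂ := fun h => ∑ x : R h, e (β (x : M) (x : M))
  have hperp : ∀ h, ∀ f ∈ fixSub ρ h, ∀ y ∈ R h, β f y = 0 := by
    rintro h f hf _ ⟨z, rfl⟩
    rw [LinearMap.sub_apply, LinearMap.id_apply, map_sub]
    conv_lhs => arg 2; rw [← (mem_fixSub ρ).1 hf, hinv]
    rw [sub_self]
  have hdec : ∀ h x, ∃ f ∈ fixSub ρ h, ∃ y ∈ R h, f + y = x := fun h x => Submodule.mem_sup.1
    (show x ∈ fixSub ρ h ⊔ R h by rw [(fix_isCompl_range hpC h).sup_eq_top]; trivial)
  have hFnd : ∀ h, LNd (resForm β (fixSub ρ h)) := fun h x hx => Subtype.ext (hnd x fun z => by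
    obtain ⟨f, hf, y, hy, rfl⟩ := hdec h z
    rw [map_add, hperp h x x.2 y hy, add_zero]
    exact hx ⟨f, hf⟩)
  have hRnd : ∀ h, LNd (resForm β (R h)) := fun h x hx => Subtype.ext (hnd x fun z => by
    obtain ⟨f, hf, y, hy, rfl⟩ := hdec h z
    rw [map_add, hs, hperp h f hf x x.2, zero_add]
    exact hx ⟨y, hy⟩)
  have hfull : ∀ h, G 1 = G h * ε h := by
    intro h
    have h0 : G 1 = ∑ x : M, e (β x x) := by
      have e1 : fixSub ρ (1 : C) = ⊤ := by ext x; simp [mem_fixSub]
      refine Fintype.sum_equiv ((LinearEquiv.ofEq _ _ e1).trans Submodule.topEquiv).toEquiv _ _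
        fun x => rfl
    rw [h0, Finset.sum_mul_sum, ← Fintype.sum_prod_type']
    refine (Fintype.sum_equiv (Submodule.prodEquivOfIsCompl _ _ (fix_isCompl_range hpC h)).toEquiv
      _ _ fun x => ?_).symm
    obtain ⟨a, b⟩ := x
    show e (β (a : M) a) * e (β (b : M) b) = e (β ((a : M) + b) ((a : M) + b))
    simp only [e, ← AddChar.map_add_eq_mul]
    congr 1
    simp only [map_add, LinearMap.add_apply, hperp h a a.2 b b.2, hs (b : M) (a : M), add_zero,
      zero_add]
  have hG : ∀ h, G h * conj (G h) = (fixCard ρ h : ℂ) := fun h => by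
    rw [fixCard]
    exact gauss_norm hp (β := resForm β (fixSub ρ h)) (fun x y => hs _ _) (hFnd h)
  have hε : ∀ h, ε h * conj (ε h) = (Nat.card (R h) : ℂ) := fun h =>
    gauss_norm hp (β := resForm β (R h)) (fun x y => hs _ _) (hRnd h)
  refine ⟨ε, fun h => IsIntegral.sum _ fun x _ => stdChar_isIntegral _,
    fun h => sum_mem fun x _ => mem_rootField_of_dvd hN (stdChar_pow _), fun h => ?_, fun h hh => ?_, ?_⟩
  · rw [hε, card_of_isCompl (fix_isCompl_range (ρ := ρ) hpC h), fixCard, Nat.cast_mul, mul_comm]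
  · have hR : R h ≠ ⊥ := fun h0 => hh (LinearMap.ext fun x => by
      have h1 : (LinearMap.id - ρ h : M →ₗ[ZMod p] M) x ∈ R h := ⟨x, rfl⟩
      rw [h0, Submodule.mem_bot, LinearMap.sub_apply, sub_eq_zero] at h1
      exact h1.symm)
    have h1 : Cfsg.MemLocalIdeal Mi (ε h - (Nat.card (R h) : ℂ)) := by
      rw [show (Nat.card (R h) : ℂ) = ∑ _x : R h, (1 : ℂ) by simp, ← Finset.sum_sub_distrib]
      exact memLocalIdeal_sum hM _ _ fun x _ =>
        H85.memLocalIdeal_root_sub_one hM (k := 1) (by rw [pow_one]; exact stdChar_pow _)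
    have h2 : Cfsg.MemLocalIdeal Mi (Nat.card (R h) : ℂ) := by
      rw [memLocalIdeal_natCast_iff hM, Module.natCard_eq_pow_finrank (K := ZMod p), Nat.card_zmod]
      exact dvd_pow_self p fun h0 => hR (Submodule.finrank_eq_zero.1 h0)
    simpa using memLocalIdeal_add hM h1 h2
  · obtain ⟨T, Q, hQ, hQv⟩ := algSpan_fixCard_inv (ρ := ρ)
    have hGmem : G ∈ algSpan C := by
      have e1 : G = fun h => ∑ k : ZMod p, e k * (Nat.card {x : M // β x x = k ∧ ρ h x = x} : ℂ) := by
        funext h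
        simp only [G]
        rw [← Finset.sum_fiberwise (g := fun x : fixSub ρ h => β (x : M) (x : M))]
        refine Finset.sum_congr rfl fun k _ => ?_
        rw [Finset.sum_congr rfl fun x hx => congrArg e (Finset.mem_filter.1 hx).2, Finset.sum_const,
          nsmul_eq_mul, mul_comm, ← Fintype.card_subtype, ← Nat.card_eq_fintype_card]
        congr 2
        exact Nat.card_congr
          { toFun := fun x => ⟨x.1.1, x.2, x.1.2⟩
            invFun := fun x => ⟨⟨x.1, x.2.2⟩, x.2.1⟩
            left_inv := fun x => rfl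
            right_inv := fun x => rfl }
      rw [e1]
      exact mem_algSpan_sum _ fun k _ => mem_algSpan_smul (stdChar_isIntegral k)
        (algSpan_fixedCount (fun x => β x x = k) fun h x hx => by rw [hinv]; exact hx)
    refine ⟨T, ?_⟩
    convert mul_mem (mul_mem (mem_algSpan_const (C := C) (a := G 1)
      (IsIntegral.sum _ fun x _ => stdChar_isIntegral _)) (algSpan_conj hGmem)) hQ using 1
    funext h
    simp only [Pi.mul_apply]
    rw [hfull h, ← hQv h]
    linear_combination (-(ε h) * Q h) * hG h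

end Cfsg.Agent.Robinson
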