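import Cfsg.Agent.Robinson.Alg
import Cfsg.Agent.Robinson.Module
import Cfsg.Agent.H85.ModP
import Cfsg.Agent.H33.PermCharacter
import Mathlib.FieldTheory.Finiteness

/-!
# Class functions of absolute square `|M| / |C_M(h)|`
-/

open scoped ComplexConjugate
open Cfsg.Agent.BlockBasic

namespace Cfsg.Agent.Robinson

universe u v

variable {p : ℕ} [Fact p.Prime] {C : Type u} [Group C] [Finite C]
  {M : Type v} [AddCommGroup M] [Module (ZMod p) M] [Finite M]

/-- There is a `p`-locally virtual class function of absolute square `|M| / |C_M(h)|`, integral,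
in the `N`-th cyclotomic field and in the ideal off the kernel. -/
def Good (Mi : Ideal Cfsg.AlgInt) (N : ℕ) (ρ : Representation (ZMod p) C M) : Prop :=
  ∃ ε : C → ℂ, (∀ h, IsIntegral ℤ (ε h)) ∧ (∀ h, ε h ∈ rootField N) ∧
    (∀ h, ε h * conj (ε h) * (fixCard ρ h : ℂ) = (Nat.card M : ℂ)) ∧
    (∀ h, ρ h ≠ 1 → Cfsg.MemLocalIdeal Mi (ε h)) ∧
    ∃ T : ℕ, (fun h => (p : ℂ) ^ T * ε h) ∈ algSpan C

variable {Mi : Ideal Cfsg.AlgInt} {N : ℕ} {ρ : Representation (ZMod p) C M}

omit [Finite C] [Finite M] in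
theorem good_of_trivial (h1 : ∀ h, ρ h = 1) : Good Mi N ρ := by
  refine ⟨fun _ => 1, fun _ => isIntegral_one, fun _ => one_mem _, fun h => ?_,
    fun h hh => absurd (h1 h) hh, 0, ?_⟩
  · have e : fixSub ρ h = ⊤ := by
      ext x
      simp [mem_fixSub, h1 h]
    rw [fixCard, e, map_one, one_mul, one_mul]
    simp
  · simp only [pow_zero, one_mul]
    exact one_mem _

theorem good_mul (hM : Cfsg.IsPModular p Mi) {W L : Submodule (ZMod p) M} (hW : InvSub ρ W)
    (hL : InvSub ρ L) (hc : IsCompl W L) (g1 : Good Mi N (res ρ W hW)) (g2 : Good Mi N (res ρ L hL)) :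
    Good Mi N ρ := by
  obtain ⟨a, a1, a2, a3, a4, T, a5⟩ := g1
  obtain ⟨b, b1, b2, b3, b4, S, b5⟩ := g2
  refine ⟨fun h => a h * b h, fun h => (a1 h).mul (b1 h), fun h => mul_mem (a2 h) (b2 h), fun h => ?_,
    fun h hh => ?_, T + S, ?_⟩
  · rw [fixCard_mul hW hL hc h, card_of_isCompl hc, Nat.cast_mul, Nat.cast_mul, ← a3 h, ← b3 h,
      map_mul]
    ring
  · by_cases hw : res ρ W hW h = 1
    · have hl : res ρ L hL h ≠ 1 := by
        intro hl
        refine hh (LinearMap.ext fun x => ?_)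
        obtain ⟨w, hwm, l, hlm, rfl⟩ := Submodule.mem_sup.1
          (show x ∈ W ⊔ L by rw [hc.sup_eq_top]; trivial)
        have e1 := congrArg Subtype.val (LinearMap.congr_fun hw ⟨w, hwm⟩)
        have e2 := congrArg Subtype.val (LinearMap.congr_fun hl ⟨l, hlm⟩)
        simp only [coe_res, Module.End.one_apply] at e1 e2
        rw [map_add, e1, e2, Module.End.one_apply]
      exact memLocalIdeal_mul hM (memLocalRing_of_isIntegral hM (a1 h)) (b4 h hl)
    · show Cfsg.MemLocalIdeal Mi (a h * b h)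
      rw [mul_comm]
      exact memLocalIdeal_mul hM (memLocalRing_of_isIntegral hM (b1 h)) (a4 h hw)
  · convert mul_mem a5 b5 using 1
    funext h
    simp only [Pi.mul_apply, pow_add]
    ring

omit [Finite C] in
/-- Counting fixed points in an invariant set gives a character. -/
theorem algSpan_fixedCount (P : M → Prop) (hP : ∀ h x, P x → P (ρ h x)) :
    (fun h => (Nat.card {x : M // P x ∧ ρ h x = x} : ℂ)) ∈ algSpan C := by
  classical
  letI : MulAction C {x : M // P x} :=
    { smul := fun h x => ⟨ρ h x.1, hP h x.1 x.2⟩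
      one_smul := fun x => Subtype.ext (by show ρ 1 x.1 = x.1; simp)
      mul_smul := fun a b x => Subtype.ext (by show ρ (a * b) x.1 = ρ a (ρ b x.1); simp) }
  haveI : Fintype {x : M // P x} := Fintype.ofFinite _
  have e : (fun h => (Nat.card {x : M // P x ∧ ρ h x = x} : ℂ)) = H33.permChar C {x : M // P x} := by
    funext h
    rw [H33.permChar]
    congr 1
    exact Nat.card_congr
      { toFun := fun x => ⟨⟨x.1, x.2.1⟩, Subtype.ext x.2.2⟩
        invFun := fun x => ⟨x.1.1, x.1.2, congrArg Subtype.val x.2⟩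
        left_inv := fun x => rfl
        right_inv := fun x => rfl }
  rw [e]
  exact mem_algSpan_char H33.isCharacter_permChar

omit [Finite C] in
theorem algSpan_fixCard : (fun h => (fixCard ρ h : ℂ)) ∈ algSpan C := by
  convert algSpan_fixedCount (ρ := ρ) (fun _ => True) (fun _ _ _ => trivial) using 3 with h
  exact Nat.card_congr (Equiv.subtypeEquivRight fun x => by simp [mem_fixSub])

/-- `p^T / |C_M(h)|` lies in the span. -/
theorem algSpan_fixCard_inv :
    ∃ (T : ℕ) (Q : C → ℂ), Q ∈ algSpan C ∧ ∀ h, (fixCard ρ h : ℂ) * Q h = (p : ℂ) ^ T := by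
  refine algSpan_inverse algSpan_fixCard (n := Module.finrank (ZMod p) M + 1) fun h =>
    ⟨Module.finrank (ZMod p) (fixSub ρ h), Nat.lt_succ_of_le (Submodule.finrank_le _), ?_⟩
  rw [fixCard, Module.natCard_eq_pow_finrank (K := ZMod p), Nat.card_zmod]
  push_cast
  rfl

end Cfsg.Agent.Robinson
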